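import Cfsg.Agent.Lib.SchmidtUniversal.Fibre
import Cfsg.Agent.Lib.Fg6.SchmidtSylow
import Cfsg.Agent.S0132

/-!
The data of a minimal non-`p`-nilpotent group of order `p ^ t * q ^ r`.
-/

set_option autoImplicit false
set_option linter.style.haveILetI false
set_option linter.unusedSectionVars false

open scoped commutatorElement

namespace Cfsg.Agent.Lib.SchmidtUniversal

open Subgroup

variable {p q : ℕ} [hp : Fact p.Prime] [hq : Fact q.Prime]

theorem comm_expand {G : Type*} [Group G] (a b c : G) :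
    ⁅a, b * c⁆ = ⁅a, b⁆ * (b * ⁅a, c⁆ * b⁻¹) := by group

/-- The Schmidt structure with the prime `q` given. -/
theorem exists_ctx {X : Type*} [Group X] [Finite X] (hpq : p ≠ q) {r t : ℕ}
    (h1 : ¬ Cfsg.HasNormalPComplement p X)
    (h2 : ∀ H : Subgroup X, H ≠ ⊤ → Cfsg.HasNormalPComplement p ↥H)
    (hcard : Nat.card X = p ^ t * q ^ r) :
    ∃ (P : Sylow p X) (α : X), (P : Subgroup X).Normal ∧ orderOf α = q ^ r ∧
      (P : Subgroup X) ⊔ zpowers α = ⊤ ∧
      ((frattini ↥(P : Subgroup X)).map (P : Subgroup X).subtype ≤ center X) ∧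
      (∀ x ∈ (P : Subgroup X), α ^ q * x = x * α ^ q) ∧
      (P : Subgroup X) ≠ ⊥ ∧
      (∀ x ∈ (P : Subgroup X), ⁅α, x⁆ ∈ (frattini ↥(P : Subgroup X)).map (P : Subgroup X).subtype →
        x ∈ (frattini ↥(P : Subgroup X)).map (P : Subgroup X).subtype) ∧
      (∀ N : Subgroup X, N.Normal → N ≤ P →
        N = P ∨ N ≤ (frattini ↥(P : Subgroup X)).map (P : Subgroup X).subtype) ∧
      (frattini ↥(P : Subgroup X)).map (P : Subgroup X).subtype ≠ (P : Subgroup X) := by
  obtain ⟨hmin, hX, hPn⟩ := Cfsg.Agent.S0132.result h1 h2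
  obtain ⟨p1, q1, hp1, hq1, hne, R, Q, hcyc, hQn, hsup, hnc⟩ :=
    Cores.Schmidt.structure_of_minimal hX hmin
  haveI := Fact.mk hp1
  haveI := Fact.mk hq1
  haveI := hQn
  have hdiv : ∀ (s : ℕ) [Fact s.Prime] (S : Sylow s X), (S : Subgroup X) ≠ ⊥ → s = p ∨ s = q := by
    intro s hs S hS
    have h3 : s ∣ p ^ t * q ^ r := hcard ▸
      (S.isPGroup'.card_eq_or_dvd.resolve_left fun h => hS (card_eq_one.1 h)).trans
        (card_subgroup_dvd_card _)
    rcases (Nat.Prime.dvd_mul hs.out).1 h3 with h | h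
    · exact Or.inl ((Nat.prime_dvd_prime_iff_eq hs.out hp.out).1 (hs.out.dvd_of_dvd_pow h))
    · exact Or.inr ((Nat.prime_dvd_prime_iff_eq hs.out hq.out).1 (hs.out.dvd_of_dvd_pow h))
  have hQ1 : (Q : Subgroup X) ≠ ⊥ := fun h => hnc fun x _ => by
    rw [mem_centralizer_iff]
    intro y hy
    rw [h, SetLike.mem_coe, mem_bot] at hy
    rw [hy, one_mul, mul_one]
  have hR1 : (R : Subgroup X) ≠ ⊥ := fun h => hnc (h ▸ bot_le)
  have hp1p : p1 ≠ p := by
    intro he
    subst he
    refine hnc fun x hx => ?_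
    rw [mem_centralizer_iff]
    exact fun y hy => ((commute_of_normal_of_disjoint _ _ (hPn R) hQn
      (IsPGroup.disjoint_of_ne p1 q1 hne _ _ R.isPGroup' Q.isPGroup') x y hx hy).eq).symm
  have e1 : p1 = q := (hdiv p1 R hR1).resolve_left hp1p
  subst e1
  have e2 : q1 = p := (hdiv q1 Q hQ1).resolve_right (Ne.symm hne)
  subst e2
  haveI : IsCyclic ↥(R : Subgroup X) := hcyc
  obtain ⟨⟨α, hαR⟩, hgen⟩ := IsCyclic.exists_generator (α := ↥(R : Subgroup X))
  have hRα : (R : Subgroup X) = zpowers α := le_antisymm (fun x hx => by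
    obtain ⟨k, hk⟩ := hgen ⟨x, hx⟩
    exact ⟨k, congrArg Subtype.val hk⟩) (zpowers_le.2 hαR)
  have hord : orderOf α = p1 ^ r := by
    rw [← Nat.card_zpowers, ← hRα, R.card_eq_multiplicity, hcard,
      Nat.factorization_mul (pow_ne_zero _ hp.out.ne_zero) (pow_ne_zero _ hq.out.ne_zero),
      hp.out.factorization_pow, hq.out.factorization_pow]
    simp [hne, hpq]
  have hcop : (Nat.card (R : Subgroup X)).Coprime (Nat.card (Q : Subgroup X)) :=
    IsPGroup.coprime_card_of_ne p1 q1 hne _ _ R.isPGroup' Q.isPGroup'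
  have hnc' : ¬ ∀ x ∈ (Q : Subgroup X), α * x = x * α := by
    intro h
    refine hnc ?_
    rw [hRα, zpowers_le, mem_centralizer_iff]
    exact fun y hy => (h y hy).symm
  -- proper invariant subgroups are centralised
  have hcent : ∀ N : Subgroup X, N ≤ Q → (Q : Subgroup X) ≠ N → N.Normal → ∀ x ∈ N, α * x = x * α := by
    intro N hNQ hne' hN x hx
    have hne'' : (R : Subgroup X) ⊔ N ≠ ⊤ := by
      intro he
      apply hne'
      refine (eq_of_le_of_card_ge hNQ ?_).symm
      have h1 := Cfsg.Agent.Lib.Cores.card_sup_dvd_mul (R : Subgroup X) N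
      rw [he, card_top] at h1
      have h2 := (hcop.mul_dvd_of_dvd_of_dvd (card_subgroup_dvd_card _)
        (card_subgroup_dvd_card _)).trans h1
      exact Nat.le_of_dvd Nat.card_pos (Nat.dvd_of_mul_dvd_mul_left Nat.card_pos h2)
    exact (mem_centralizer_iff.1 (Cores.Schmidt.commute_of_isNilpotent (hmin _ hne'') hne le_sup_left
      le_sup_right R.isPGroup' (Q.isPGroup'.to_le hNQ) hαR) x hx).symm
  set F := (frattini ↥(Q : Subgroup X)).map (Q : Subgroup X).subtype with hF
  haveI hFn : F.Normal := ConjAct.normal_of_characteristic_of_normal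
  have hFQ : F ≤ Q := map_subtype_le _
  have hQP : IsPGroup q1 ↥(Q : Subgroup X) := Q.isPGroup'
  haveI : Nontrivial ↥(Q : Subgroup X) := (Subgroup.nontrivial_iff_ne_bot _).2 hQ1
  have hFne : (Q : Subgroup X) ≠ F := by
    intro he
    have h1 : frattini ↥(Q : Subgroup X) = ⊤ := by
      rw [← Subgroup.comap_map_eq_self_of_injective (Q : Subgroup X).subtype_injective
        (frattini ↥(Q : Subgroup X)), ← hF, ← he]
      exact Subgroup.subgroupOf_self _
    obtain ⟨M, hM⟩ := (eq_top_or_exists_le_coatom (⊥ : Subgroup ↥(Q : Subgroup X))).resolve_left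
      bot_ne_top
    exact hM.1.1 (top_le_iff.1 (h1 ▸ frattini_le_coatom hM.1))
  have hcomF : ∀ x ∈ (Q : Subgroup X), ∀ y ∈ (Q : Subgroup X), ⁅x, y⁆ ∈ F := fun x hx y hy =>
    ⟨⁅(⟨x, hx⟩ : ↥(Q : Subgroup X)), ⟨y, hy⟩⁆, PGroups.commutatorElement_mem_frattini hQP _ _, rfl⟩
  have hFα := hcent F hFQ hFne hFn
  have hfull : ∀ N : Subgroup X, N.Normal → N ≤ Q →
      (∀ x ∈ (Q : Subgroup X), ⁅α, x⁆ ∈ N) → N = Q := by
    intro N hN hNQ hxN
    by_contra hne'
    refine hnc' fun x hx => ?_
    have hNα := hcent N hNQ (Ne.symm hne') hN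
    have h2 : ∀ n : ℕ, α ^ n * x * (α ^ n)⁻¹ = ⁅α, x⁆ ^ n * x := by
      intro n
      induction n with
      | zero => simp
      | succ n ih =>
        have hc : α * ⁅α, x⁆ ^ n * α⁻¹ = ⁅α, x⁆ ^ n := by
          rw [hNα _ (pow_mem (hxN x hx) n), mul_inv_cancel_right]
        calc α ^ (n + 1) * x * (α ^ (n + 1))⁻¹ = α * (α ^ n * x * (α ^ n)⁻¹) * α⁻¹ := by
              rw [pow_succ']; group
          _ = (α * ⁅α, x⁆ ^ n * α⁻¹) * (α * x * α⁻¹) := by rw [ih]; group
          _ = ⁅α, x⁆ ^ n * (⁅α, x⁆ * x) := by rw [hc, commutatorElement_def]; group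
          _ = ⁅α, x⁆ ^ (n + 1) * x := by rw [pow_succ]; group
    have h3 := h2 (Nat.card (R : Subgroup X))
    rw [show α ^ Nat.card (R : Subgroup X) = 1 from
      orderOf_dvd_iff_pow_eq_one.1 ((R : Subgroup X).orderOf_dvd_natCard hαR)] at h3
    simp only [one_mul, inv_one, mul_one] at h3
    have h4 : ⁅α, x⁆ = 1 := by
      rw [← orderOf_eq_one_iff]
      exact Nat.eq_one_of_dvd_coprimes hcop (orderOf_dvd_of_pow_eq_one (right_eq_mul.1 h3))
        ((Q : Subgroup X).orderOf_dvd_natCard (hNQ (hxN x hx)))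
    exact commutatorElement_eq_one_iff_mul_comm.1 h4
  have hXgen : ∀ S : Subgroup X, (Q : Subgroup X) ≤ S → α ∈ S → S = ⊤ := fun S h1 h2 =>
    top_le_iff.1 (hsup ▸ sup_le (hRα ▸ zpowers_le.2 h2) h1)
  have hnormal : ∀ N : Subgroup X, (∀ u ∈ (Q : Subgroup X), ∀ n ∈ N, u * n * u⁻¹ ∈ N) →
      (∀ n ∈ N, α * n * α⁻¹ ∈ N) → N.Normal := by
    intro N hQN hαN
    refine normalizer_eq_top_iff.1 (hXgen _ (fun y hy => ?_) ?_)
    · rw [mem_normalizer_iff]
      exact fun n => ⟨fun hn => hQN y hy n hn, fun hn => by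
        simpa [mul_assoc] using hQN y⁻¹ (inv_mem hy) _ hn⟩
    · rw [mem_normalizer_iff_map_conj_eq]
      refine eq_of_le_of_card_ge ?_ (card_map_of_injective (MulAut.conj α).injective).ge
      rintro _ ⟨n, hn, rfl⟩
      exact hαN n hn
  set π := QuotientGroup.mk' F with hπ
  have hπF : ∀ x, π x = 1 ↔ x ∈ F := fun x => QuotientGroup.eq_one_iff x
  have hπQ : ∀ u ∈ (Q : Subgroup X), ∀ n ∈ (Q : Subgroup X), π (u * n * u⁻¹) = π n := fun u hu n hn => by
    rw [show u * n * u⁻¹ = ⁅u, n⁆ * n by rw [commutatorElement_def]; group, map_mul,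
      (hπF _).2 (hcomF u hu n hn), one_mul]
  have hQn' : ∀ g, ∀ n ∈ (Q : Subgroup X), g * n * g⁻¹ ∈ (Q : Subgroup X) := fun g n hn => hQn.conj_mem n hn g
  have hcQ : ∀ x ∈ (Q : Subgroup X), ⁅α, x⁆ ∈ (Q : Subgroup X) := fun x hx =>
    mul_mem (hQn' α x hx) (inv_mem hx)
  have hfix : ∀ x ∈ (Q : Subgroup X), ⁅α, x⁆ ∈ F → x ∈ F := by
    let f : ↥(Q : Subgroup X) →* X ⧸ F :=
      { toFun := fun x => π ⁅α, (x : X)⁆
        map_one' := by simp
        map_mul' := fun x y => by
          rw [Subgroup.coe_mul, comm_expand, map_mul, hπQ x x.2 _ (hcQ y y.2)] }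
    set N : Subgroup X := (Q : Subgroup X) ⊓ f.range.comap π with hN
    have hNn : N.Normal := by
      refine hnormal N (fun u hu n hn => ?_) (fun n hn => ?_)
      · refine ⟨hQn' u n hn.1, ?_⟩
        show π (u * n * u⁻¹) ∈ f.range
        rw [hπQ u hu n hn.1]; exact hn.2
      · obtain ⟨x, hx⟩ : π n ∈ f.range := hn.2
        refine ⟨hQn' α n hn.1, ⟨⟨α * x * α⁻¹, hQn' α x x.2⟩, ?_⟩⟩
        change π ⁅α, (x : X)⁆ = π n at hx
        show π ⁅α, α * x * α⁻¹⁆ = π (α * n * α⁻¹)
        rw [map_mul π (α * n), map_mul, ← hx, ← map_mul, ← map_mul]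
        congr 1
        rw [commutatorElement_def, commutatorElement_def]
        group
    have hNQ : N = Q := hfull N hNn inf_le_left fun x hx => ⟨hcQ x hx, ⟨⟨x, hx⟩, rfl⟩⟩
    have hrange : f.range = (Q : Subgroup X).map π := by
      refine le_antisymm ?_ ?_
      · rintro _ ⟨x, rfl⟩; exact ⟨_, hcQ x x.2, rfl⟩
      · rintro _ ⟨x, hx, rfl⟩
        exact ((hNQ.symm ▸ hx : x ∈ N)).2
    have h1 := Subgroup.index_ker f
    rw [hrange, ← Subgroup.relIndex_ker, hπ, QuotientGroup.ker_mk'] at h1
    have h2 : F.subgroupOf Q ≤ f.ker := fun x hx => by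
      show π ⁅α, (x : X)⁆ = 1
      rw [hπF, commutatorElement_eq_one_iff_mul_comm.2 (hFα x hx)]
      exact one_mem _
    have h3 : f.ker = F.subgroupOf Q := by
      refine le_antisymm ?_ h2
      have h4 := Subgroup.relIndex_mul_index h2
      rw [show (F.subgroupOf Q).index = F.relIndex Q from rfl, ← h1] at h4
      rw [← Subgroup.relIndex_eq_one]
      exact Nat.eq_of_mul_eq_mul_right (Nat.pos_of_ne_zero Subgroup.index_ne_zero_of_finite)
        (h4.trans (one_mul _).symm)
    intro x hx hxF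
    have : (⟨x, hx⟩ : ↥(Q : Subgroup X)) ∈ f.ker := by
      show π ⁅α, x⁆ = 1
      exact (hπF _).2 hxF
    rw [h3] at this
    exact this
  have hirr : ∀ N : Subgroup X, N.Normal → N ≤ Q → N = Q ∨ N ≤ F := by
    intro N hN hNQ
    refine or_iff_not_imp_left.2 fun hne' x hx => hfix x (hNQ hx) ?_
    rw [commutatorElement_eq_one_iff_mul_comm.2 (hcent N hNQ (Ne.symm hne') hN x hx)]
    exact one_mem _
  have hFZ : F ≤ center X := by
    haveI : (centralizer (F : Set X)).Normal := normal_centralizer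
    have hαC : α ∈ centralizer (F : Set X) := mem_centralizer_iff.2 fun y hy => (hFα y hy).symm
    have hQC : (Q : Subgroup X) ≤ centralizer (F : Set X) := by
      have h := hfull ((Q : Subgroup X) ⊓ centralizer (F : Set X)) (normal_inf_normal _ _) inf_le_left
        fun x hx => ⟨hcQ x hx, by
          have h1 := (inferInstance : (centralizer (F : Set X)).Normal).conj_mem _ (inv_mem hαC) x
          have h2 := mul_mem hαC h1
          rw [show ⁅α, x⁆ = α * (x * α⁻¹ * x⁻¹) by rw [commutatorElement_def]; group]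
          exact h2⟩
      exact h ▸ inf_le_right
    intro y hy
    rw [mem_center_iff]
    intro g
    have : g ∈ centralizer (F : Set X) := by rw [hXgen _ hQC hαC]; trivial
    exact (mem_centralizer_iff.1 this y hy).symm
  have hαq : ∀ x ∈ (Q : Subgroup X), α ^ p1 * x = x * α ^ p1 := by
    intro x hx
    have hlt : (zpowers (α ^ p1)) ⊔ (Q : Subgroup X) ≠ ⊤ := by
      intro he
      have h1 := Cfsg.Agent.Lib.Cores.card_sup_dvd_mul (zpowers (α ^ p1)) (Q : Subgroup X)
      rw [he, card_top] at h1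
      have h2 := (hcop.mul_dvd_of_dvd_of_dvd (card_subgroup_dvd_card _)
        (card_subgroup_dvd_card _)).trans h1
      have h3 := Nat.le_of_dvd Nat.card_pos (Nat.dvd_of_mul_dvd_mul_right Nat.card_pos h2)
      rw [hRα, Nat.card_zpowers, Nat.card_zpowers, orderOf_pow] at h3
      have hrd : p1 ∣ orderOf α := by
        rw [hord]
        refine dvd_pow_self p1 fun h0 => hR1 ?_
        rw [hRα, zpowers_eq_bot, ← orderOf_eq_one_iff, hord, h0, pow_zero]
      rw [Nat.gcd_eq_right hrd] at h3
      exact absurd h3 (not_le.2 (Nat.div_lt_self (orderOf_pos α) hq.out.one_lt))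
    exact (mem_centralizer_iff.1 (Cores.Schmidt.commute_of_isNilpotent (hmin _ hlt) hne le_sup_left
      le_sup_right (R.isPGroup'.to_le (zpowers_le.2 (pow_mem hαR p1))) Q.isPGroup'
      (mem_zpowers (α ^ p1))) x hx).symm
  exact ⟨Q, α, hQn, hord, by rw [sup_comm, ← hRα]; exact hsup, hFZ, hαq, hQ1, hfix, hirr, hFne.symm⟩

/-- Every minimal non-`p`-nilpotent group of order `p ^ t * q ^ r` carries the data. -/
theorem exists_datum {K : Type*} [Field K] [Finite K] {a : ℕ} {ζ : K} (h : Gen p q a ζ)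
    {X : Type*} [Group X] [Finite X] {r t : ℕ}
    (h1 : ¬ Cfsg.HasNormalPComplement p X)
    (h2 : ∀ H : Subgroup X, H ≠ ⊤ → Cfsg.HasNormalPComplement p ↥H)
    (hcard : Nat.card X = p ^ t * q ^ r) :
    Nonempty (Datum p (q ^ r) ζ X) := by
  classical
  obtain ⟨P, α, hPn, hord, hgen, hFZ, hαq, hP1, hfix, hirr, hFne⟩ := exists_ctx h.ne h1 h2 hcard
  haveI := hPn
  set Φ := frattini ↥(P : Subgroup X) with hΦ
  set F := Φ.map (P : Subgroup X).subtype with hF
  let V := ↥(P : Subgroup X) ⧸ Φ
  letI : CommGroup V :=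
    { (inferInstance : Group V) with
      mul_comm := fun a b => by
        induction a using QuotientGroup.induction_on with | _ x => ?_
        induction b using QuotientGroup.induction_on with | _ y => ?_
        rw [← commutatorElement_eq_one_iff_mul_comm]
        exact (map_commutatorElement (QuotientGroup.mk' Φ) x y).symm.trans
          ((QuotientGroup.eq_one_iff _).2 (PGroups.commutatorElement_mem_frattini P.isPGroup' x y)) }
  have hΦF : ∀ x : ↥(P : Subgroup X), x ∈ Φ ↔ (x : X) ∈ F := fun x =>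
    ⟨fun h => ⟨x, h, rfl⟩, fun ⟨y, hy, hyx⟩ => by rwa [← Subtype.ext (a1 := y) (a2 := x) hyx]⟩
  let cj : MulAut ↥(P : Subgroup X) := MulAut.conjNormal α
  have hcj : ∀ x, ((cj x : ↥(P : Subgroup X)) : X) = α * x * α⁻¹ := fun x => rfl
  let σ : V ≃* V := QuotientGroup.congr Φ Φ cj
    (Subgroup.characteristic_iff_map_eq.1 inferInstance cj)
  have hσ : ∀ x : ↥(P : Subgroup X), σ (x : V) = ((cj x : ↥(P : Subgroup X)) : V) := fun x => rfl
  let s : AddMonoid.End (Additive V) := MonoidHom.toAdditive σ.toMonoidHom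
  have hs : ∀ x : ↥(P : Subgroup X), s (Additive.ofMul (x : V)) = Additive.ofMul ((cj x : ↥(P : Subgroup X)) : V) :=
    fun x => rfl
  have hsq : s ^ q = 1 := by
    have hit : ∀ (n : ℕ) (x : ↥(P : Subgroup X)), (s ^ n) (Additive.ofMul (x : V)) =
        Additive.ofMul ((⟨α ^ n * x * (α ^ n)⁻¹, hPn.conj_mem _ x.2 _⟩ : ↥(P : Subgroup X)) : V) := by
      intro n
      induction n with
      | zero => intro x; simp
      | succ n ih =>
        intro x
        rw [pow_succ']
        show s ((s ^ n) (Additive.ofMul (x : V))) = _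
        rw [ih, hs]
        congr 2
        exact Subtype.ext (by rw [hcj, pow_succ']; group)
    refine AddMonoidHom.ext fun v => ?_
    obtain ⟨x, hx⟩ := QuotientGroup.mk_surjective (Additive.toMul v)
    rw [show v = Additive.ofMul (x : V) by rw [hx]; rfl]
    refine (hit q x).trans ?_
    show _ = Additive.ofMul (x : V)
    congr 2
    exact Subtype.ext (by
      show α ^ q * (x : X) * (α ^ q)⁻¹ = x
      rw [hαq _ x.2, mul_inv_cancel_right])
  let T : Subring (AddMonoid.End (Additive V)) := Subring.closure {s}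
  letI : CommRing ↥T := Subring.closureCommRingOfComm (by
    rintro _ rfl _ rfl
    rfl)
  have hTs : ∀ f ∈ T, f * s = s * f := by
    intro f hf
    have : Commute s f := by
      induction hf using Subring.closure_induction with
      | mem x hx => rw [Set.mem_singleton_iff.1 hx]
      | zero => exact Commute.zero_right _
      | one => exact Commute.one_right _
      | add x y _ _ hx hy => exact hx.add_right hy
      | neg x _ hx => exact hx.neg_right
      | mul x y _ _ hx hy => exact hx.mul_right hy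
    exact this.eq.symm
  -- an invariant subgroup of `V` is trivial or everything
  have hinvV : ∀ U : AddSubgroup (Additive V), (∀ v ∈ U, s v ∈ U) → U = ⊥ ∨ U = ⊤ := by
    intro U hU
    let N : Subgroup X :=
      ((AddSubgroup.toSubgroup' U).comap (QuotientGroup.mk' Φ)).map (P : Subgroup X).subtype
    have hNn : N.Normal := by
      refine normalizer_eq_top_iff.1 (top_le_iff.1 (hgen ▸ sup_le (fun y hy => ?_) ?_))
      · rw [mem_normalizer_iff_map_conj_eq]
        refine eq_of_le_of_card_ge ?_ (card_map_of_injective (MulAut.conj y).injective).ge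
        rintro _ ⟨_, ⟨n, hn, rfl⟩, rfl⟩
        refine ⟨⟨y, hy⟩ * n * ⟨y, hy⟩⁻¹, ?_, by simp⟩
        show Additive.ofMul ((((⟨y, hy⟩ * n * ⟨y, hy⟩⁻¹ : ↥(P : Subgroup X))) : V)) ∈ U
        rw [QuotientGroup.mk_mul, QuotientGroup.mk_mul, QuotientGroup.mk_inv,
          mul_comm ((⟨y, hy⟩ : ↥(P : Subgroup X)) : V), mul_inv_cancel_right]
        exact hn
      · rw [zpowers_le, mem_normalizer_iff_map_conj_eq]
        refine eq_of_le_of_card_ge ?_ (card_map_of_injective (MulAut.conj α).injective).ge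
        rintro _ ⟨_, ⟨n, hn, rfl⟩, rfl⟩
        exact ⟨cj n, hU _ hn, hcj n⟩
    rcases hirr N hNn (map_subtype_le _) with hN | hN
    · refine Or.inr (eq_top_iff.2 fun v _ => ?_)
      obtain ⟨x, hx⟩ := QuotientGroup.mk_surjective (Additive.toMul v)
      obtain ⟨y, hy, hyx⟩ := (hN.symm ▸ x.2 : (x : X) ∈ N)
      rw [show v = Additive.ofMul (x : V) by rw [hx]; rfl,
        ← Subtype.ext (a1 := y) (a2 := x) hyx]
      exact hy
    · refine Or.inl (eq_bot_iff.2 fun v hv => ?_)
      obtain ⟨x, hx⟩ := QuotientGroup.mk_surjective (Additive.toMul v)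
      rw [show v = Additive.ofMul (x : V) by rw [hx]; rfl] at hv ⊢
      rw [AddSubgroup.mem_bot, ofMul_eq_zero, QuotientGroup.eq_one_iff, hΦF]
      exact hN ⟨x, hv, rfl⟩
  haveI : Finite (AddMonoid.End (Additive V)) :=
    Finite.of_injective (fun f : AddMonoid.End (Additive V) => (⇑f : Additive V → Additive V))
      DFunLike.coe_injective
  haveI : Nontrivial V := by
    rw [← Finite.one_lt_card_iff_nontrivial]
    refine Nat.one_lt_iff_ne_zero_and_ne_one.2 ⟨Nat.card_pos.ne', fun h0 => hFne ?_⟩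
    have : Φ = ⊤ := Subgroup.index_eq_one.1 (by rw [Subgroup.index_eq_card]; exact h0)
    rw [hF, this, ← MonoidHom.range_eq_map, Subgroup.range_subtype]
  obtain ⟨v0, hv0⟩ := exists_ne (0 : Additive V)
  haveI : Nontrivial ↥T := ⟨⟨0, 1, fun h0 => hv0 (by
    have := congrArg (fun f : ↥T => (f : AddMonoid.End (Additive V)) v0) h0
    simpa using this.symm)⟩⟩
  have hinjT : ∀ f : ↥T, f ≠ 0 → ∀ v, (f : AddMonoid.End (Additive V)) v = 0 → v = 0 := by
    intro f hf v hv
    let U : AddSubgroup (Additive V) :=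
      { carrier := {w | (f : AddMonoid.End (Additive V)) w = 0}
        zero_mem' := map_zero _
        add_mem' := fun {a b} ha hb => (map_add _ a b).trans (by rw [ha, hb, add_zero])
        neg_mem' := fun {a} ha => (map_neg _ a).trans (by rw [ha, neg_zero]) }
    rcases hinvV U (fun w hw => by
      have := DFunLike.congr_fun (hTs f f.2) w
      change (f : AddMonoid.End (Additive V)) (s w) = s ((f : AddMonoid.End (Additive V)) w) at this
      show (f : AddMonoid.End (Additive V)) (s w) = 0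
      exact this.trans ((congrArg s (hw : (f : AddMonoid.End (Additive V)) w = 0)).trans (map_zero s)))
      with hk | hk
    · have : v ∈ U := hv
      rwa [hk, AddSubgroup.mem_bot] at this
    · refine absurd (Subtype.ext (AddMonoidHom.ext fun w => ?_)) hf
      have hw : w ∈ U := hk.symm ▸ AddSubgroup.mem_top w
      exact hw
  haveI : NoZeroDivisors ↥T := ⟨fun {f g} hfg => or_iff_not_imp_left.2 fun hf =>
    Subtype.ext (AddMonoidHom.ext fun w => hinjT f hf _ (by
      have := congrArg (fun u : ↥T => (u : AddMonoid.End (Additive V)) w) hfg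
      exact this))⟩
  haveI : IsDomain ↥T := NoZeroDivisors.to_isDomain _
  letI : Fintype ↥T := Fintype.ofFinite _
  letI : Field ↥T := Fintype.fieldOfDomain ↥T
  let z : ↥T := ⟨s, Subring.subset_closure rfl⟩
  let ev : ↥T →+ Additive V :=
    AddMonoidHom.mk' (fun f => (f : AddMonoid.End (Additive V)) v0) fun f g => rfl
  have hevb : Function.Bijective ev := by
    refine ⟨(injective_iff_map_eq_zero ev).2 fun f hf => ?_, ?_⟩
    · by_contra hf0
      exact hv0 (hinjT f hf0 v0 hf)
    · rcases hinvV ev.range (by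
        rintro _ ⟨f, rfl⟩
        exact ⟨z * f, rfl⟩) with hr | hr
      · exact absurd ((hr ▸ ⟨1, rfl⟩ : v0 ∈ (⊥ : AddSubgroup (Additive V)))) (by simpa using hv0)
      · exact AddMonoidHom.range_eq_top.1 hr
  have hzq : z ^ q = 1 := Subtype.ext hsq
  have hz1 : z ≠ 1 := by
    intro h0
    have h3 : ∀ x : ↥(P : Subgroup X), x ∈ Φ := fun x => by
      rw [hΦF]
      refine hfix x x.2 ?_
      have h4 := hs x
      rw [show s = 1 from congrArg Subtype.val h0] at h4
      have h5 : ((cj x * x⁻¹ : ↥(P : Subgroup X)) : V) = 1 := by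
        rw [QuotientGroup.mk_mul, QuotientGroup.mk_inv, mul_inv_eq_one]
        exact (Additive.ofMul.injective h4).symm
      have := (hΦF _).1 ((QuotientGroup.eq_one_iff _).1 h5)
      rwa [Subgroup.coe_mul, Subgroup.coe_inv, hcj, ← commutatorElement_def] at this
    exact hFne (le_antisymm (map_subtype_le _) fun x hx => ⟨⟨x, hx⟩, h3 _, rfl⟩)
  have hzord : orderOf z = q := orderOf_eq_prime hzq hz1
  have hVp : IsPGroup p V := P.isPGroup'.to_quotient Φ
  obtain ⟨d, hd⟩ := IsPGroup.iff_card.1 hVp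
  have hTcard : Nat.card ↥T = p ^ d := by
    rw [← hd]; exact (Nat.card_eq_of_bijective ev hevb).trans (Nat.card_congr Additive.toMul)
  -- `d = a`
  have hTchar : CharP ↥T p := by
    have hd0 : d ≠ 0 := by
      rintro rfl
      exact absurd (hTcard.trans (pow_zero p)) (Finite.one_lt_card (α := ↥T)).ne'
    refine (CharP.charP_iff_prime_eq_zero hp.out).2 ?_
    have := FiniteField.cast_card_eq_zero ↥T
    rw [← Nat.card_eq_fintype_card, hTcard, Nat.cast_pow] at this
    exact (pow_eq_zero_iff hd0).1 this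
  have hda : d = a := by
    have hd0 : d ≠ 0 := by
      rintro rfl
      exact absurd (hTcard.trans (pow_zero p)) (Finite.one_lt_card (α := ↥T)).ne'
    have hzu : z ≠ 0 := fun h0 => by rw [h0, orderOf_zero] at hzord; exact hq.out.pos.ne hzord
    have had : a ∣ d := h.ha ▸ (dvd_pow_sub_one_iff (q := q) d).1 (by
      have h3 := orderOf_dvd_natCard (Units.mk0 z hzu)
      rwa [← orderOf_units, Units.val_mk0, hzord, Nat.card_units, hTcard] at h3)
    refine le_antisymm ?_ (Nat.le_of_dvd (Nat.pos_of_ne_zero hd0) had)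
    haveI := hTchar
    let S : Subring ↥T := (iterateFrobenius ↥T p a).eqLocus (RingHom.id ↥T)
    have hzS : z ∈ S := by
      show iterateFrobenius ↥T p a z = z
      rw [iterateFrobenius_def, ← pow_mod_orderOf, hzord]
      have h4 : p ^ a % q = 1 := by
        have h5 : ((p ^ a : ℕ) : ZMod q) = 1 := by rw [Nat.cast_pow, h.ha, pow_orderOf_eq_one]
        haveI : Fact (1 < q) := ⟨hq.out.one_lt⟩
        have := congrArg ZMod.val h5
        rwa [ZMod.val_natCast, ZMod.val_one] at this
      rw [h4, pow_one]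
    have hall : ∀ f : ↥T, f ∈ S := by
      have hc : Subring.closure ({z} : Set ↥T) = ⊤ := by
        rw [eq_top_iff]
        rintro ⟨f, hf⟩ -
        induction hf using Subring.closure_induction with
        | mem x hx =>
          obtain rfl := Set.mem_singleton_iff.1 hx
          exact Subring.subset_closure rfl
        | zero => exact zero_mem _
        | one => exact one_mem _
        | add x y hx hy ihx ihy => exact add_mem ihx ihy
        | neg x hx ihx => exact neg_mem ihx
        | mul x y hx hy ihx ihy => exact mul_mem ihx ihy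
      intro f
      exact (Subring.closure_le.2 (Set.singleton_subset_iff.2 hzS) : Subring.closure {z} ≤ S)
        (hc ▸ Subring.mem_top f)
    have hP : 1 < p ^ a := Nat.one_lt_pow h.pos.ne' hp.out.one_lt
    have hle : Nat.card ↥T ≤ p ^ a := by
      let f : Polynomial ↥T := Polynomial.X ^ p ^ a - Polynomial.X
      have hf0 : f ≠ 0 := FiniteField.X_pow_card_sub_X_ne_zero _ hP
      calc Nat.card ↥T = Nat.card ((Set.univ : Set ↥T)) := (Nat.card_congr (Equiv.Set.univ _)).symm
        _ ≤ Nat.card (f.roots.toFinset : Set ↥T) := Nat.card_mono (Finset.finite_toSet _)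
            fun w _ => by
              have : w ^ p ^ a = w := hall w
              simp [f, hf0, this]
        _ ≤ p ^ a := by
          rw [Nat.card_coe_set_eq, Set.ncard_coe_finset,
            ← FiniteField.X_pow_card_sub_X_natDegree_eq ↥T hP]
          exact (Multiset.toFinset_card_le _).trans (Polynomial.card_roots' f)
    rw [hTcard] at hle
    exact (Nat.pow_le_pow_iff_right hp.out.one_lt).1 hle
  subst hda
  -- identify with `K`
  letI : Fintype K := Fintype.ofFinite K
  let e : ↥T ≃+* K := FiniteField.ringEquivOfCardEq (by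
    rw [← Nat.card_eq_fintype_card, ← Nat.card_eq_fintype_card, hTcard, h.card])
  have hez : IsPrimitiveRoot (e z) q := by
    rw [IsPrimitiveRoot.iff_orderOf, ← hzord]
    exact orderOf_injective e.toRingHom.toMonoidHom e.injective z
  haveI : NeZero q := ⟨hq.out.ne_zero⟩
  obtain ⟨j, hjq, hj⟩ := hez.eq_pow_of_pow_eq_one h.pow_q
  have hj0 : ¬ q ∣ j := fun hd => by
    obtain rfl := Nat.eq_zero_of_dvd_of_lt hd hjq
    rw [pow_zero] at hj
    exact hq.out.ne_one (by rw [← h.ord, ← hj, orderOf_one])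
  let evE : ↥T ≃+ Additive V := AddEquiv.ofBijective ev hevb
  let π : ↥(P : Subgroup X) →* Multiplicative K :=
    MonoidHom.mk' (fun x => Multiplicative.ofAdd (e (evE.symm (Additive.ofMul (x : V))))) fun x y => by
      rw [QuotientGroup.mk_mul, ofMul_mul, map_add, map_add, ofAdd_add]
  have hker : ∀ x, π x = 1 ↔ (x : X) ∈ F := fun x => by
    show Multiplicative.ofAdd (e (evE.symm (Additive.ofMul (x : V)))) = 1 ↔ _
    rw [ofAdd_eq_one, EmbeddingLike.map_eq_zero_iff, EmbeddingLike.map_eq_zero_iff, ofMul_eq_zero,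
      QuotientGroup.eq_one_iff, hΦF]
  have hπsurj : Function.Surjective π := fun k => by
    obtain ⟨x, hx⟩ := QuotientGroup.mk_surjective (Additive.toMul (evE (e.symm k.toAdd)))
    refine ⟨x, ?_⟩
    show Multiplicative.ofAdd (e (evE.symm (Additive.ofMul (x : V)))) = k
    rw [hx, ofMul_toMul, AddEquiv.symm_apply_apply, RingEquiv.apply_symm_apply, ofAdd_toAdd]
  set β := α ^ j with hβ
  have hcopj : (orderOf α).Coprime j := by
    rw [hord]; exact Nat.Coprime.pow_left r (hq.out.coprime_iff_not_dvd.2 hj0)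
  have hβord : orderOf β = q ^ r := by rw [hβ, Nat.Coprime.orderOf_pow hcopj, hord]
  have hequiv : ∀ x : ↥(P : Subgroup X), π ⟨β * (x : X) * β⁻¹, hPn.conj_mem _ x.2 β⟩ =
      Multiplicative.ofAdd (ζ * (π x).toAdd) := by
    have hstep : ∀ (n : ℕ) (x : ↥(P : Subgroup X)),
        π ⟨α ^ n * (x : X) * (α ^ n)⁻¹, hPn.conj_mem _ x.2 _⟩ =
          Multiplicative.ofAdd (e z ^ n * (π x).toAdd) := by
      intro n
      induction n with
      | zero =>
        intro x
        rw [pow_zero (e z), one_mul, ofAdd_toAdd]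
        congr 1
        exact Subtype.ext (by simp)
      | succ n ih =>
        intro x
        have h6 : ∀ y : ↥(P : Subgroup X), (π (cj y)).toAdd = e z * (π y).toAdd := fun y => by
          show e (evE.symm (Additive.ofMul ((cj y : ↥(P : Subgroup X)) : V))) =
            e z * e (evE.symm (Additive.ofMul (y : V)))
          rw [← map_mul]
          congr 1
          rw [AddEquiv.symm_apply_eq, ← hs]
          obtain ⟨w, hw⟩ := evE.surjective (Additive.ofMul (y : V))
          rw [← hw, AddEquiv.symm_apply_apply]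
          rfl
        conv_rhs => rw [pow_succ' (e z), mul_assoc]
        rw [ show e z ^ n * (π x).toAdd =
          (π ⟨α ^ n * (x : X) * (α ^ n)⁻¹, hPn.conj_mem _ x.2 _⟩).toAdd by rw [ih]; rfl,
          ← h6, ofAdd_toAdd]
        congr 1
        exact Subtype.ext (by rw [hcj, pow_succ']; group)
    intro x
    rw [← hj]
    exact hstep j x
  refine ⟨{
    α := β, P := P, π := π, normal := hPn, pgroup := P.isPGroup', ord := hβord, gen := ?_,
    surj := hπsurj, equiv := hequiv, central := ?_, full := ?_ }⟩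
  · have : zpowers β = zpowers α := eq_of_le_of_card_ge (zpowers_le.2 (pow_mem (mem_zpowers α) j))
      (by rw [Nat.card_zpowers, Nat.card_zpowers, hord, hβord])
    rw [this, hgen]
  · exact fun x hx g => Subgroup.mem_center_iff.1 (hFZ ((hker x).1 hx)) g
  · intro S hS
    have hζ1 : ζ - 1 ≠ 0 := sub_ne_zero.2 fun h0 => hq.out.ne_one (by rw [← h.ord, h0, orderOf_one])
    have htop : S.subgroupOf (P : Subgroup X) ⊔ Φ = ⊤ := by
      refine eq_top_iff.2 fun x _ => ?_
      obtain ⟨y, hy⟩ := hπsurj (Multiplicative.ofAdd ((ζ - 1)⁻¹ * (π x).toAdd))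
      let c : ↥(P : Subgroup X) := ⟨β * (y : X) * β⁻¹, hPn.conj_mem _ y.2 β⟩ * y⁻¹
      have hc : c ∈ S.subgroupOf (P : Subgroup X) := by
        rw [mem_subgroupOf]
        exact hS y y.2
      have hπc : π c = π x := by
        rw [map_mul, map_inv, hequiv, hy]
        apply Multiplicative.toAdd.injective
        simp only [toAdd_mul, toAdd_inv, toAdd_ofAdd]
        linear_combination mul_inv_cancel_left₀ hζ1 (π x).toAdd
      rw [← mul_inv_cancel_left c x]
      refine mul_mem (mem_sup_left hc) (mem_sup_right ?_)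
      rw [hΦF, ← hker, map_mul, map_inv, hπc, inv_mul_cancel]
    have := frattini_nongenerating htop
    exact subgroupOf_eq_top.1 this

end Cfsg.Agent.Lib.SchmidtUniversal
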