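import Cfsg.Agent.Lib.SchmidtUniversal.Field

/-!
The commutator bound in a `p`-group over a field generated by an element of order `q`, and the map
from a group attaining the bound onto every group with the same data.
-/

set_option autoImplicit false
set_option linter.unusedSectionVars false

open scoped commutatorElement Pointwise

namespace Cfsg.Agent.Lib.SchmidtUniversal

variable {p q a : ℕ} [hp : Fact p.Prime] [hq : Fact q.Prime] {K : Type*} [Field K] [Finite K]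
  {ζ : K}

/-- `P = [α, P]` normal of `p`-power order, `α` of order `n` prime to `p`, acting as `ζ` on `P` modulo
a central subgroup. -/
structure Datum (p n : ℕ) (ζ : K) (X : Type*) [Group X] where
  /-- the acting element -/
  α : X
  /-- the normal subgroup -/
  P : Subgroup X
  /-- the map to the field -/
  π : P →* Multiplicative K
  normal : P.Normal
  pgroup : IsPGroup p P
  ord : orderOf α = n
  gen : P ⊔ Subgroup.zpowers α = ⊤
  surj : Function.Surjective π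
  equiv : ∀ x : P, π ⟨α * (x : X) * α⁻¹, normal.conj_mem _ x.2 α⟩ =
    Multiplicative.ofAdd (ζ * (π x).toAdd)
  central : ∀ x : P, π x = 1 → ∀ g : X, g * x = x * g
  full : ∀ S : Subgroup X, (∀ x ∈ P, ⁅α, x⁆ ∈ S) → P ≤ S

section bound

variable {W : Type*} [Group W] [Finite W]

/-- `|[β, D]| ≤ |K| p^(a/2)`. -/
theorem card_comm_le (h : Gen p q a ζ) (β : W) (D : Subgroup W)
    (hβ : ∀ x ∈ D, β * x * β⁻¹ ∈ D) (π : D →* Multiplicative K) (hsurj : Function.Surjective π)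
    (heq : ∀ x : D, π ⟨β * (x : W) * β⁻¹, hβ x x.2⟩ = Multiplicative.ofAdd (ζ * (π x).toAdd))
    (hcen : ∀ x : D, π x = 1 → (∀ y : D, y * x = x * y) ∧ β * (x : W) * β⁻¹ = x) :
    Nat.card ↥(Subgroup.closure {z : W | ∃ x ∈ D, z = ⁅β, x⁆}) ≤
      p ^ (a + if Even a then a / 2 else 0) := by
  classical
  let cj : D →* D :=
    { toFun := fun x => ⟨β * (x : W) * β⁻¹, hβ x x.2⟩
      map_one' := Subtype.ext (by simp)
      map_mul' := fun x y => Subtype.ext (by simp [mul_assoc]) }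
  have hcj : ∀ x : D, π (cj x) = Multiplicative.ofAdd (ζ * (π x).toAdd) := heq
  have hfix : ∀ x : D, π x = 1 → cj x = x := fun x hx => Subtype.ext (hcen x hx).2
  have hkc : ∀ x : D, π x = 1 → x ∈ Subgroup.center D := fun x hx =>
    Subgroup.mem_center_iff.2 (hcen x hx).1
  have hcomm : ∀ x y : D, π ⁅x, y⁆ = 1 := fun x y => by
    rw [map_commutatorElement, commutatorElement_eq_one_iff_mul_comm]
    exact mul_comm _ _
  have hcomm_c : ∀ x y : D, ⁅x, y⁆ ∈ Subgroup.center D := fun x y => hkc _ (hcomm x y)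
  have hmulr : ∀ x y y' : D, ⁅x, y * y'⁆ = ⁅x, y⁆ * ⁅x, y'⁆ := fun x y y' => by
    rw [show ⁅x, y * y'⁆ = ⁅x, y⁆ * (y * ⁅x, y'⁆ * y⁻¹) by group,
      Subgroup.mem_center_iff.1 (hcomm_c x y') y, mul_inv_cancel_right]
  have hmull : ∀ x x' y : D, ⁅x * x', y⁆ = ⁅x, y⁆ * ⁅x', y⁆ := fun x x' y => by
    rw [show ⁅x * x', y⁆ = (x * ⁅x', y⁆ * x⁻¹) * ⁅x, y⁆ by group,
      Subgroup.mem_center_iff.1 (hcomm_c x' y) x, mul_inv_cancel_right]
    exact (Subgroup.mem_center_iff.1 (hcomm_c x' y) _).symm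
  letI : CommGroup ↥(Subgroup.center D) :=
    { (inferInstance : Group ↥(Subgroup.center D)) with
      mul_comm := fun x y => Subtype.ext (Subgroup.mem_center_iff.1 y.2 x) }
  let s : K → D := fun u => Function.surjInv hsurj (Multiplicative.ofAdd u)
  have hs : ∀ u, π (s u) = Multiplicative.ofAdd u := fun u => Function.surjInv_eq hsurj _
  have hwell : ∀ x y : D, ⁅x, y⁆ = ⁅s (π x).toAdd, s (π y).toAdd⁆ := by
    intro x y
    have h1 : ∀ z : D, ∃ w, π w = 1 ∧ z = s (π z).toAdd * w := fun z =>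
      ⟨(s (π z).toAdd)⁻¹ * z, by rw [map_mul, map_inv, hs, ofAdd_toAdd, inv_mul_cancel],
        by rw [mul_inv_cancel_left]⟩
    obtain ⟨w, hw, hx⟩ := h1 x
    obtain ⟨w', hw', hy⟩ := h1 y
    have hz : ∀ z : D, ⁅w, z⁆ = 1 := fun z =>
      commutatorElement_eq_one_iff_mul_comm.2 ((hcen w hw).1 z).symm
    have hz' : ∀ z : D, ⁅z, w'⁆ = 1 := fun z =>
      commutatorElement_eq_one_iff_mul_comm.2 ((hcen w' hw').1 z)
    conv_lhs => rw [hx, hy]
    rw [hmull, hz, mul_one, hmulr, hz', mul_one]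
  let c0 : K → K → Additive ↥(Subgroup.center D) := fun u v =>
    Additive.ofMul ⟨⁅s u, s v⁆, hcomm_c _ _⟩
  have hc0 : ∀ u v, ((c0 u v).toMul : D) = ⁅s u, s v⁆ := fun u v => rfl
  have hext : ∀ z z' : Additive ↥(Subgroup.center D), (z.toMul : D) = (z'.toMul : D) → z = z' :=
    fun z z' he => Additive.toMul.injective (Subtype.ext he)
  have hof : ∀ x y : D, ⁅x, y⁆ = ((c0 (π x).toAdd (π y).toAdd).toMul : D) := hwell
  have haddr : ∀ u v v', c0 u (v + v') = c0 u v + c0 u v' := fun u v v' => hext _ _ (by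
    rw [toMul_add, Subgroup.coe_mul, hc0, hc0, hc0, ← hmulr, hwell (s u) (s v * s v'), map_mul, hs,
      hs, hs]
    rfl)
  have haddl : ∀ u u' v, c0 (u + u') v = c0 u v + c0 u' v := fun u u' v => hext _ _ (by
    rw [toMul_add, Subgroup.coe_mul, hc0, hc0, hc0, ← hmull, hwell (s u * s u') (s v), map_mul, hs,
      hs, hs]
    rfl)
  let c : K →+ K →+ Additive ↥(Subgroup.center D) :=
    AddMonoidHom.mk' (fun u => AddMonoidHom.mk' (c0 u) (haddr u))
      fun u u' => AddMonoidHom.ext fun v => haddl u u' v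
  have halt : ∀ u, c u u = 0 := fun u => hext _ _ (commutatorElement_self (s u))
  have hinv : ∀ u v, c (ζ * u) (ζ * v) = c u v := fun u v => hext _ _ (by
    show ⁅s (ζ * u), s (ζ * v)⁆ = ⁅s u, s v⁆
    have h1 := hwell (cj (s u)) (cj (s v))
    rw [hcj, hcj, hs, hs] at h1
    simp only [toAdd_ofAdd] at h1
    rw [← h1, ← map_commutatorElement, hfix _ (hcomm _ _)])
  obtain ⟨R, hRf, hRc, hR⟩ := h.range_bound c halt hinv
  let R' : Subgroup D := (AddSubgroup.toSubgroup' R).map (Subgroup.center D).subtype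
  have hR'mem : ∀ x y : D, ⁅x, y⁆ ∈ R' := fun x y =>
    ⟨(c0 (π x).toAdd (π y).toAdd).toMul, hR _ _, (hof x y).symm⟩
  haveI hR'n : R'.Normal := ⟨fun z hz g => by
    have : z ∈ Subgroup.center D := Subgroup.map_subtype_le _ hz
    rwa [Subgroup.mem_center_iff.1 this g, mul_inv_cancel_right]⟩
  have hR'card : Nat.card R' ≤ p ^ (if Even a then a / 2 else 0) := by
    rw [Subgroup.card_map_of_injective (Subgroup.subtype_injective _)]
    exact hRc
  let mk : D →* D ⧸ R' := QuotientGroup.mk' R'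
  have hab : ∀ X Y : D ⧸ R', X * Y = Y * X := by
    intro X Y
    induction X using QuotientGroup.induction_on with | _ x => ?_
    induction Y using QuotientGroup.induction_on with | _ y => ?_
    rw [← commutatorElement_eq_one_iff_mul_comm]
    exact (map_commutatorElement mk x y).symm.trans ((QuotientGroup.eq_one_iff _).2 (hR'mem x y))
  let δ : D →* D ⧸ R' :=
    MonoidHom.mk' (fun x => mk (cj x) * (mk x)⁻¹) fun x y => by
      rw [map_mul, map_mul, map_mul, mul_inv_rev, ← hab (mk x)⁻¹ (mk y)⁻¹]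
      simp only [mul_assoc]
      congr 1
      rw [← mul_assoc (mk (cj y)), hab (mk (cj y)) (mk x)⁻¹, mul_assoc]
  have hδ : Nat.card δ.range ≤ p ^ a := by
    have h1 : π.ker ≤ δ.ker := fun x hx => by
      show mk (cj x) * (mk x)⁻¹ = 1
      rw [hfix x hx, mul_inv_cancel]
    have h2 := Subgroup.index_dvd_of_le h1
    rw [Subgroup.index_ker, Subgroup.index_ker, MonoidHom.range_eq_top.2 hsurj, Subgroup.card_top,
      Nat.card_congr Multiplicative.toAdd, h.card] at h2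
    exact Nat.le_of_dvd (pow_pos hp.out.pos a) h2
  set L := δ.range.comap mk with hL
  have hLcard : Nat.card L = Nat.card R' * Nat.card δ.range := by
    have h1 := L.card_mul_index
    rw [hL, Subgroup.index_comap_of_surjective _ (QuotientGroup.mk'_surjective R'),
      Subgroup.card_eq_card_quotient_mul_card_subgroup R', ← δ.range.card_mul_index] at h1
    refine Nat.eq_of_mul_eq_mul_right (Nat.pos_of_ne_zero Subgroup.index_ne_zero_of_finite)
      (h1.trans (by ring))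
  have hle : Subgroup.closure {z : W | ∃ x ∈ D, z = ⁅β, x⁆} ≤ L.map D.subtype := by
    rw [Subgroup.closure_le]
    rintro _ ⟨x, hx, rfl⟩
    refine ⟨cj ⟨x, hx⟩ * (⟨x, hx⟩ : D)⁻¹, ⟨⟨x, hx⟩, ?_⟩, rfl⟩
    rw [map_mul, map_inv]
    rfl
  refine (Subgroup.card_le_of_le hle).trans ?_
  rw [Subgroup.card_map_of_injective D.subtype_injective, hLcard, pow_add, mul_comm (p ^ a)]
  exact Nat.mul_le_mul hR'card hδ

end bound

theorem zpow_eq_one_of_mem {X : Type*} [Group X] [Finite X] {P : Subgroup X} (hP : IsPGroup p P)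
    {α : X} {n : ℕ} (hα : orderOf α = n) (hn : n.Coprime p) {i : ℤ} (h : α ^ i ∈ P) : α ^ i = 1 := by
  obtain ⟨k, hk⟩ := IsPGroup.iff_orderOf.1 hP ⟨α ^ i, h⟩
  rw [Subgroup.orderOf_mk] at hk
  have h1 : orderOf (α ^ i) ∣ n := hα ▸ orderOf_dvd_of_mem_zpowers ⟨i, rfl⟩
  rw [← orderOf_eq_one_iff]
  exact Nat.eq_one_of_dvd_coprimes (hn.pow_right k) h1 (hk ▸ dvd_rfl)

theorem exists_mem_mul_zpow {X : Type*} [Group X] [Finite X] {S : Subgroup X} {β w : X}
    (hβ : ∀ x ∈ S, β * x * β⁻¹ ∈ S) (hw : w ∈ S ⊔ Subgroup.zpowers β) :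
    ∃ x ∈ S, ∃ i : ℤ, w = x * β ^ i := by
  have hn : Subgroup.zpowers β ≤ Subgroup.normalizer (S : Set X) := by
    rw [Subgroup.zpowers_le, Subgroup.mem_normalizer_iff_map_conj_eq]
    refine Subgroup.eq_of_le_of_card_ge ?_
      (Subgroup.card_map_of_injective (MulAut.conj β).injective).ge
    rintro _ ⟨x, hx, rfl⟩
    exact hβ x hx
  obtain ⟨x, hx, _, ⟨i, rfl⟩, hxw⟩ : w ∈ (S : Set X) * (Subgroup.zpowers β : Set X) := by
    rw [← Subgroup.coe_mul_of_right_le_normalizer_left _ _ hn]; exact hw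
  exact ⟨x, hx, i, hxw.symm⟩

/-- A group attaining the bound maps onto every group with the same data, with central kernel. -/
theorem exists_hom (h : Gen p q a ζ) {n : ℕ} (hn : n.Coprime p) {G X : Type*} [Group G] [Finite G]
    [Group X] [Finite X] (d₀ : Datum p n ζ G) (d : Datum p n ζ X)
    (hcard : Nat.card d₀.P = p ^ (a + if Even a then a / 2 else 0)) :
    ∃ φ : G →* X, Function.Surjective φ ∧ φ.ker ≤ Subgroup.center G := by
  classical
  let P1 := d₀.P.prod d.P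
  let f1 : P1 →* d₀.P := MonoidHom.mk' (fun z => ⟨(z : G × X).1, z.2.1⟩) fun _ _ => rfl
  let f2 : P1 →* d.P := MonoidHom.mk' (fun z => ⟨(z : G × X).2, z.2.2⟩) fun _ _ => rfl
  let D : Subgroup (G × X) := ((d₀.π.comp f1).eqLocus (d.π.comp f2)).map P1.subtype
  have hD : ∀ z : G × X, z ∈ D ↔
      ∃ (h1 : z.1 ∈ d₀.P) (h2 : z.2 ∈ d.P), d₀.π ⟨z.1, h1⟩ = d.π ⟨z.2, h2⟩ := fun z =>
    ⟨by rintro ⟨w, hw, rfl⟩; exact ⟨w.2.1, w.2.2, hw⟩,
      fun ⟨h1, h2, he⟩ => ⟨⟨z, h1, h2⟩, he, rfl⟩⟩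
  set β : G × X := (d₀.α, d.α) with hβdef
  have hβD : ∀ z ∈ D, β * z * β⁻¹ ∈ D := by
    intro z hz
    obtain ⟨h1, h2, he⟩ := (hD z).1 hz
    refine (hD _).2 ⟨d₀.normal.conj_mem _ h1 d₀.α, d.normal.conj_mem _ h2 d.α, ?_⟩
    exact (d₀.equiv ⟨z.1, h1⟩).trans ((congrArg (fun w => Multiplicative.ofAdd (ζ * w.toAdd)) he).trans
      (d.equiv ⟨z.2, h2⟩).symm)
  let fD : D →* d₀.P :=
    MonoidHom.mk' (fun z => ⟨(z : G × X).1, ((hD _).1 z.2).1⟩) fun _ _ => rfl
  have hlift : ∀ x : d₀.P, ∃ y : d.P, ((x : G), (y : X)) ∈ D := fun x => by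
    obtain ⟨y, hy⟩ := d.surj (d₀.π x)
    exact ⟨y, (hD _).2 ⟨x.2, y.2, hy.symm⟩⟩
  have hlift' : ∀ y : d.P, ∃ x : d₀.P, ((x : G), (y : X)) ∈ D := fun y => by
    obtain ⟨x, hx⟩ := d₀.surj (d.π y)
    exact ⟨x, (hD _).2 ⟨x.2, y.2, hx⟩⟩
  have hcen : ∀ z : D, d₀.π (fD z) = 1 → ∀ w : G × X, w * (z : G × X) = (z : G × X) * w := by
    intro z hz w
    obtain ⟨h1, h2, he⟩ := (hD _).1 z.2
    refine Prod.ext (d₀.central ⟨_, h1⟩ hz w.1) (d.central ⟨_, h2⟩ ?_ w.2)
    rw [← he]; exact hz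
  set D1 := Subgroup.closure {z : G × X | ∃ x ∈ D, z = ⁅β, x⁆} with hD1
  have hbound : Nat.card D1 ≤ p ^ (a + if Even a then a / 2 else 0) := by
    refine card_comm_le h β D hβD (d₀.π.comp fD) (fun k => ?_) (fun z => d₀.equiv (fD z))
      fun z hz => ⟨fun w => Subtype.ext (hcen z hz w), ?_⟩
    · obtain ⟨x, hx⟩ := d₀.surj k
      obtain ⟨y, hy⟩ := hlift x
      exact ⟨⟨_, hy⟩, hx⟩
    · rw [hcen z hz β, mul_inv_cancel_right]
  have hD1D : D1 ≤ D := by
    rw [hD1, Subgroup.closure_le]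
    rintro _ ⟨x, hx, rfl⟩
    exact mul_mem (hβD x hx) (inv_mem hx)
  have hβD1 : ∀ z ∈ D1, β * z * β⁻¹ ∈ D1 := by
    intro z hz
    have h1 : D1 ≤ D1.comap (MulAut.conj β).toMonoidHom := by
      conv_lhs => rw [hD1]
      rw [Subgroup.closure_le]
      rintro _ ⟨x, hx, rfl⟩
      refine Subgroup.subset_closure ⟨β * x * β⁻¹, hβD x hx, ?_⟩
      show β * ⁅β, x⁆ * β⁻¹ = _
      group
    exact h1 hz
  let pr1 : G × X →* G := MonoidHom.fst G X
  let pr2 : G × X →* X := MonoidHom.snd G X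
  have hP0 : D1.map pr1 = d₀.P := by
    refine le_antisymm ?_ (d₀.full _ fun x hx => ?_)
    · rintro _ ⟨z, hz, rfl⟩
      exact ((hD z).1 (hD1D hz)).1
    · obtain ⟨y, hy⟩ := hlift ⟨x, hx⟩
      exact ⟨_, Subgroup.subset_closure ⟨_, hy, rfl⟩, rfl⟩
  have hPX : D1.map pr2 = d.P := by
    refine le_antisymm ?_ (d.full _ fun x hx => ?_)
    · rintro _ ⟨z, hz, rfl⟩
      exact ((hD z).1 (hD1D hz)).2.1
    · obtain ⟨y, hy⟩ := hlift' ⟨x, hx⟩
      exact ⟨_, Subgroup.subset_closure ⟨_, hy, rfl⟩, rfl⟩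
  have hinj1 : ∀ z ∈ D1, z.1 = 1 → z = 1 := by
    let f : D1 →* d₀.P := MonoidHom.mk'
      (fun z => ⟨(z : G × X).1, hP0 ▸ Subgroup.mem_map_of_mem pr1 z.2⟩) fun _ _ => rfl
    have hsurj : Function.Surjective f := fun x => by
      obtain ⟨z, hz, hzx⟩ := (hP0.symm ▸ x.2 : (x : G) ∈ D1.map pr1)
      exact ⟨⟨z, hz⟩, Subtype.ext hzx⟩
    have hbij := (Nat.bijective_iff_surjective_and_card f).2
      ⟨hsurj, le_antisymm (hbound.trans_eq hcard.symm) (Nat.card_le_card_of_surjective f hsurj)⟩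
    intro z hz hz1
    have : (⟨z, hz⟩ : D1) = 1 := hbij.1 (Subtype.ext hz1)
    exact congrArg Subtype.val this
  set W1 := D1 ⊔ Subgroup.zpowers β with hW1
  have hdec : ∀ w : W1, ∃ x ∈ D1, ∃ i : ℤ, (w : G × X) = x * β ^ i := fun w =>
    exists_mem_mul_zpow hβD1 w.2
  have hβi : ∀ i : ℤ, d₀.α ^ i = 1 ↔ d.α ^ i = 1 := fun i => by
    rw [← orderOf_dvd_iff_zpow_eq_one, ← orderOf_dvd_iff_zpow_eq_one, d₀.ord, d.ord]
  let F1 : W1 →* G := pr1.comp W1.subtype
  let F2 : W1 →* X := pr2.comp W1.subtype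
  have hF1inj : Function.Injective F1 := by
    rw [injective_iff_map_eq_one]
    intro w hw
    obtain ⟨x, hx, i, he⟩ := hdec w
    have h1 : x.1 * d₀.α ^ i = 1 := by
      have := hw
      change (w : G × X).1 = 1 at this
      rwa [he] at this
    have hxP : x.1 ∈ d₀.P := ((hD x).1 (hD1D hx)).1
    have hi : d₀.α ^ i = 1 := zpow_eq_one_of_mem d₀.pgroup d₀.ord hn
      (by rw [eq_inv_of_mul_eq_one_right h1]; exact inv_mem hxP)
    rw [hi, mul_one] at h1
    refine Subtype.ext ?_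
    rw [he, hinj1 x hx h1, one_mul]
    exact Prod.ext hi ((hβi i).1 hi)
  have hF1surj : Function.Surjective F1 := by
    rw [← MonoidHom.range_eq_top, ← top_le_iff, ← d₀.gen, sup_le_iff, Subgroup.zpowers_le]
    refine ⟨fun x hx => ?_, ⟨⟨β, Subgroup.mem_sup_right (Subgroup.mem_zpowers β)⟩, rfl⟩⟩
    obtain ⟨z, hz, hzx⟩ := (hP0.symm ▸ hx : x ∈ D1.map pr1)
    exact ⟨⟨z, Subgroup.mem_sup_left hz⟩, hzx⟩
  let e : W1 ≃* G := MulEquiv.ofBijective F1 ⟨hF1inj, hF1surj⟩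
  refine ⟨F2.comp e.symm.toMonoidHom, ?_, ?_⟩
  · have hF2 : Function.Surjective F2 := by
      rw [← MonoidHom.range_eq_top, ← top_le_iff, ← d.gen, sup_le_iff, Subgroup.zpowers_le]
      refine ⟨fun x hx => ?_, ⟨⟨β, Subgroup.mem_sup_right (Subgroup.mem_zpowers β)⟩, rfl⟩⟩
      obtain ⟨z, hz, hzx⟩ := (hPX.symm ▸ hx : x ∈ D1.map pr2)
      exact ⟨⟨z, Subgroup.mem_sup_left hz⟩, hzx⟩
    exact hF2.comp e.symm.surjective
  · intro g hg
    obtain ⟨w, rfl⟩ := e.surjective g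
    have hw : (w : G × X).2 = 1 := by
      have := MonoidHom.mem_ker.1 hg
      simpa [F2, pr2] using this
    obtain ⟨x, hx, i, he⟩ := hdec w
    obtain ⟨hx1, hx2, hxe⟩ := (hD x).1 (hD1D hx)
    rw [he] at hw
    have h1 : x.2 * d.α ^ i = 1 := hw
    have hi : d.α ^ i = 1 := zpow_eq_one_of_mem d.pgroup d.ord hn
      (by rw [eq_inv_of_mul_eq_one_right h1]; exact inv_mem hx2)
    rw [hi, mul_one] at h1
    have hval : e w = x.1 := by
      show (w : G × X).1 = x.1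
      rw [he]
      show x.1 * d₀.α ^ i = x.1
      rw [(hβi i).2 hi, mul_one]
    rw [hval, Subgroup.mem_center_iff]
    refine d₀.central ⟨x.1, hx1⟩ ?_
    rw [hxe, show (⟨x.2, hx2⟩ : d.P) = 1 from Subtype.ext h1, map_one]

end Cfsg.Agent.Lib.SchmidtUniversal
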