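import Mathlib

/-!
Finite fields generated by an element `ζ` of prime order `q`, and biadditive maps invariant under
multiplication by `ζ`.
-/

set_option autoImplicit false
set_option linter.unusedSectionVars false

namespace Cfsg.Agent.Lib.SchmidtUniversal

variable {p q : ℕ} [hp : Fact p.Prime] [hq : Fact q.Prime] {K : Type*} [Field K] [Finite K]

/-- The data: `|K| = p ^ a`, `a` the order of `p` modulo `q`, `ζ` of order `q`. -/
structure Gen (p q a : ℕ) (ζ : K) : Prop where
  ne : p ≠ q
  ha : a = orderOf (p : ZMod q)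
  card : Nat.card K = p ^ a
  ord : orderOf ζ = q

variable {a : ℕ} {ζ : K}

theorem dvd_pow_sub_one_iff (m : ℕ) : q ∣ p ^ m - 1 ↔ orderOf (p : ZMod q) ∣ m := by
  rw [orderOf_dvd_iff_pow_eq_one, ← Nat.cast_pow, ← ZMod.natCast_eq_zero_iff,
    Nat.cast_sub (Nat.one_le_pow _ _ hp.out.pos), Nat.cast_one, sub_eq_zero]

theorem Gen.pos (h : Gen p q a ζ) : 0 < a := by
  rcases Nat.eq_zero_or_pos a with h0 | h0
  · have h1 := h.card
    rw [h0, pow_zero] at h1
    exact absurd h1 (Finite.one_lt_card (α := K)).ne'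
  · exact h0

theorem Gen.ne_zero (h : Gen p q a ζ) : ζ ≠ 0 := by
  rintro rfl
  have h1 := h.ord
  rw [orderOf_zero] at h1
  exact hq.out.pos.ne h1

theorem Gen.pow_q (h : Gen p q a ζ) : ζ ^ q = 1 := h.ord ▸ pow_orderOf_eq_one ζ

theorem Gen.inv_eq (h : Gen p q a ζ) : ζ⁻¹ = ζ ^ (q - 1) := by
  refine inv_eq_of_mul_eq_one_right ?_
  rw [← pow_succ', Nat.sub_add_cancel hq.out.one_le, h.pow_q]

theorem Gen.charP (h : Gen p q a ζ) : CharP K p := by
  have hd : (p : K) = 0 := by
    have h1 : ((Nat.card K : ℕ) : K) = 0 := by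
      haveI := Fintype.ofFinite K
      rw [Nat.card_eq_fintype_card]
      exact FiniteField.cast_card_eq_zero K
    rw [h.card, Nat.cast_pow] at h1
    exact (pow_eq_zero_iff h.pos.ne').1 h1
  exact (CharP.charP_iff_prime_eq_zero hp.out).2 hd

/-- A subring containing `ζ` is everything. -/
theorem Gen.subring_eq_top (h : Gen p q a ζ) (S : Subring K) (hS : ζ ∈ S) : S = ⊤ := by
  haveI : Finite S := inferInstance
  haveI : IsDomain S := inferInstance
  obtain ⟨d, hda, hd⟩ := (Nat.dvd_prime_pow hp.out).1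
    (h.card ▸ AddSubgroup.card_addSubgroup_dvd_card S.toAddSubgroup)
  have hd' : Nat.card S = p ^ d := hd
  letI := Fintype.ofFinite S
  classical
  let FS : Field S := Fintype.fieldOfDomain S
  letI := FS
  let z : Sˣ := Units.mk0 (⟨ζ, hS⟩ : S) fun h0 => h.ne_zero (congrArg Subtype.val h0)
  have hz : orderOf z = q := by
    rw [← orderOf_units, ← orderOf_injective S.subtype.toMonoidHom Subtype.val_injective]
    exact h.ord
  have hdvd : q ∣ p ^ d - 1 := by
    rw [← hz, ← hd', ← Nat.card_units]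
    exact orderOf_dvd_natCard z
  have hd0 : d ≠ 0 := by
    rintro rfl
    rw [pow_zero] at hd'
    exact absurd hd' (Finite.one_lt_card (α := S)).ne'
  have had : a ≤ d := Nat.le_of_dvd (Nat.pos_of_ne_zero hd0) (h.ha ▸ (dvd_pow_sub_one_iff d).1 hdvd)
  have hcard : Nat.card K ≤ Nat.card S.toAddSubgroup := by
    rw [h.card]
    exact (Nat.pow_le_pow_right hp.out.pos had).trans_eq hd.symm
  have := AddSubgroup.eq_top_of_le_card S.toAddSubgroup hcard
  exact SetLike.ext fun x => ⟨fun _ => trivial, fun _ => (this.symm ▸ trivial : x ∈ S.toAddSubgroup)⟩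

/-- An additive subgroup stable under multiplication by `ζ` is trivial or everything. -/
theorem Gen.addSubgroup_cases (h : Gen p q a ζ) (U : AddSubgroup K) (hU : ∀ u ∈ U, ζ * u ∈ U) :
    U = ⊥ ∨ U = ⊤ := by
  let S : Subring K :=
    { carrier := {k | ∀ u ∈ U, k * u ∈ U}
      mul_mem' := fun {k l} hk hl u hu => by rw [mul_assoc]; exact hk _ (hl u hu)
      one_mem' := fun u hu => by rwa [one_mul]
      add_mem' := fun {k l} hk hl u hu => by rw [add_mul]; exact add_mem (hk u hu) (hl u hu)
      zero_mem' := fun u _ => by rw [zero_mul]; exact zero_mem _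
      neg_mem' := fun {k} hk u hu => by rw [neg_mul]; exact neg_mem (hk u hu) }
  have hS : S = ⊤ := h.subring_eq_top S hU
  by_cases hb : U = ⊥
  · exact Or.inl hb
  · obtain ⟨u, hu, hu0⟩ : ∃ u ∈ U, u ≠ 0 := by
      by_contra hc
      push Not at hc
      exact hb (by ext x; exact ⟨fun hx => AddSubgroup.mem_bot.2 (hc x hx), fun hx => by
        rw [AddSubgroup.mem_bot.1 hx]; exact zero_mem _⟩)
    refine Or.inr (AddSubgroup.ext fun x => ⟨fun _ => trivial, fun _ => ?_⟩)
    have : x * u⁻¹ ∈ S := hS ▸ trivial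
    have := this u hu
    rwa [inv_mul_cancel_right₀ hu0] at this

/-- A ring endomorphism is a power of the Frobenius map. -/
theorem Gen.exists_pow (h : Gen p q a ζ) (τ : K →+* K) :
    ∃ i < a, ∀ x, τ x = x ^ p ^ i := by
  haveI := h.charP
  letI := ZMod.algebra K p
  haveI : Algebra.IsAlgebraic (ZMod p) K := Algebra.IsAlgebraic.of_finite _ _
  let f : K →ₐ[ZMod p] K :=
    { τ with
      commutes' := fun r =>
        RingHom.congr_fun
          (Subsingleton.elim (τ.comp (algebraMap (ZMod p) K)) (algebraMap (ZMod p) K)) r }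
  obtain ⟨n, hn⟩ := (FiniteField.bijective_frobeniusAlgHom_pow (ZMod p) K).2 f
  have hrank : Module.finrank (ZMod p) K = a := by
    have := Module.natCard_eq_pow_finrank (K := ZMod p) (V := K)
    rw [h.card, Nat.card_zmod] at this
    exact (Nat.pow_right_injective hp.out.two_le this).symm
  refine ⟨n.1, hrank ▸ n.2, fun x => ?_⟩
  have hx : τ x = (FiniteField.frobeniusAlgHom (ZMod p) K ^ n.1) x :=
    (congrFun (congrArg DFunLike.coe hn) x).symm
  rw [hx]
  clear hn hx
  induction n.1 generalizing x with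
  | zero => simp
  | succ j ih =>
    rw [pow_succ', AlgHom.mul_apply, ih, FiniteField.coe_frobeniusAlgHom]
    simp only [ZMod.card]
    rw [← pow_mul, ← pow_succ]

/-- An endomorphism inverting `ζ`: for odd `q` it is the Frobenius power `a / 2`. -/
theorem Gen.inverting (h : Gen p q a ζ) (τ : K →+* K) (hτ : τ ζ = ζ⁻¹) :
    (q = 2 ∧ a = 1 ∧ ∀ x, τ x = x) ∨ (Even a ∧ ∀ x, τ x = x ^ p ^ (a / 2)) := by
  obtain ⟨i, hia, hi⟩ := h.exists_pow τ
  by_cases hq2 : q = 2
  · subst hq2
    have ha1 : a = 1 := by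
      rw [h.ha]
      have hodd : p % 2 = 1 := Nat.odd_iff.1 (hp.out.odd_of_ne_two h.ne)
      rw [show (p : ZMod 2) = 1 by rw [← ZMod.natCast_mod, hodd, Nat.cast_one], orderOf_one]
    exact Or.inl ⟨rfl, ha1, fun x => by rw [hi, show i = 0 by omega, pow_zero, pow_one]⟩
  · right
    have h1 : ζ ^ (p ^ i + 1) = 1 := by
      rw [pow_succ, ← hi, hτ, inv_mul_cancel₀ h.ne_zero]
    have h2 : (p : ZMod q) ^ i = -1 := by
      have h3 : q ∣ p ^ i + 1 := h.ord ▸ orderOf_dvd_of_pow_eq_one h1
      rw [← ZMod.natCast_eq_zero_iff, Nat.cast_add, Nat.cast_pow, Nat.cast_one] at h3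
      exact eq_neg_of_add_eq_zero_left h3
    have hne : (-1 : ZMod q) ≠ 1 := fun hh => by
      have : ((2 : ℕ) : ZMod q) = 0 := by push_cast; linear_combination -hh
      rw [ZMod.natCast_eq_zero_iff] at this
      exact hq2 ((Nat.prime_dvd_prime_iff_eq hq.out Nat.prime_two).1 this)
    have hnd : ¬ a ∣ i := fun hd => hne (by
      rw [← h2]; exact orderOf_dvd_iff_pow_eq_one.1 (h.ha ▸ hd))
    have hd2 : a ∣ 2 * i := h.ha ▸ orderOf_dvd_iff_pow_eq_one.2 (by
      rw [mul_comm, pow_mul, h2, neg_one_sq])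
    have hi0 : i ≠ 0 := fun h0 => hnd (h0 ▸ dvd_zero a)
    obtain ⟨k, hk⟩ := hd2
    have hk1 : k = 1 := by
      rcases k with _ | _ | k
      · omega
      · rfl
      · exfalso
        have : a * 2 ≤ a * (k + 1 + 1) := Nat.mul_le_mul_left _ (by omega)
        omega
    subst hk1
    have h2i : i + i = a := by omega
    exact ⟨⟨i, h2i.symm⟩, fun x => by rw [hi, show a / 2 = i by omega]⟩

/-- The exponent of the centre in the universal group. -/
theorem sub_exponent (a : ℕ) :
    (if a % 2 = 1 then a else 3 * a / 2) = a + (if Even a then a / 2 else 0) := by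
  by_cases he : Even a
  · rw [if_pos he, if_neg (by have := Nat.even_iff.1 he; omega)]
    obtain ⟨k, rfl⟩ := he
    omega
  · rw [if_neg he, if_pos (Nat.not_even_iff.1 he), add_zero]

/-- The values of an alternating invariant biadditive map lie in a small subgroup. -/
theorem Gen.range_bound (h : Gen p q a ζ) {A : Type*} [AddCommGroup A] (c : K →+ K →+ A)
    (halt : ∀ u, c u u = 0) (hinv : ∀ u v, c (ζ * u) (ζ * v) = c u v) :
    ∃ R : AddSubgroup A, Finite R ∧ Nat.card R ≤ p ^ (if Even a then a / 2 else 0) ∧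
      ∀ u v, c u v ∈ R := by
  classical
  by_cases hc : c = 0
  · exact ⟨⊥, inferInstance, by
      rw [AddSubgroup.card_bot]; exact Nat.one_le_pow _ _ hp.out.pos,
      fun u v => by rw [hc]; simp⟩
  have hadj : ∀ u v, c (ζ * u) v = c u (ζ⁻¹ * v) := fun u v => by
    rw [← hinv u (ζ⁻¹ * v), mul_inv_cancel_left₀ h.ne_zero]
  -- no radical
  have hrad : ∀ v, (∀ u, c u v = 0) → v = 0 := by
    let R : AddSubgroup K :=
      { carrier := {v | ∀ u, c u v = 0}
        zero_mem' := fun u => map_zero _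
        add_mem' := fun {v w} hv hw u => by rw [map_add, hv u, hw u, add_zero]
        neg_mem' := fun {v} hv u => by rw [map_neg, hv u, neg_zero] }
    rcases h.addSubgroup_cases R (fun v hv u => by
      have := hinv (ζ⁻¹ * u) v
      rw [mul_inv_cancel_left₀ h.ne_zero] at this
      rw [this, hv]) with hR | hR
    · exact fun v hv => by
        have : v ∈ R := hv
        rwa [hR, AddSubgroup.mem_bot] at this
    · exact absurd (AddMonoidHom.ext fun u => AddMonoidHom.ext fun v => by
        have : v ∈ R := hR.symm ▸ trivial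
        simpa using this u) hc
  let S : Subring K :=
    { carrier := {k | ∃ k', ∀ u v, c (k * u) v = c u (k' * v)}
      mul_mem' := fun {k l} ⟨k', hk⟩ ⟨l', hl⟩ => ⟨l' * k', fun u v => by
        rw [mul_assoc, hk, hl, ← mul_assoc]⟩
      one_mem' := ⟨1, fun u v => by rw [one_mul, one_mul]⟩
      add_mem' := fun {k l} ⟨k', hk⟩ ⟨l', hl⟩ => ⟨k' + l', fun u v => by
        rw [add_mul, add_mul, map_add, map_add, AddMonoidHom.add_apply, hk, hl]⟩
      zero_mem' := ⟨0, fun u v => by simp⟩
      neg_mem' := fun {k} ⟨k', hk⟩ => ⟨-k', fun u v => by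
        rw [neg_mul, neg_mul, map_neg, map_neg, AddMonoidHom.neg_apply, hk]⟩ }
  have hS : S = ⊤ := h.subring_eq_top S ⟨ζ⁻¹, hadj⟩
  have hex : ∀ k : K, ∃ k', ∀ u v, c (k * u) v = c u (k' * v) := fun k => (hS ▸ trivial : k ∈ S)
  choose adj hadj' using hex
  have huniq : ∀ k k', (∀ u v, c (k * u) v = c u (k' * v)) → adj k = k' := fun k k' hk => by
    have := hrad ((adj k - k') * 1) fun u => by
      rw [sub_mul, map_sub, ← hadj' k u 1, hk u 1, sub_self]
    exact sub_eq_zero.1 (by simpa using this)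
  let τ : K →+* K :=
    { toFun := adj
      map_one' := huniq _ _ fun u v => by rw [one_mul, one_mul]
      map_mul' := fun k l => huniq _ _ fun u v => by
        rw [mul_assoc, hadj' k, hadj' l, ← mul_assoc, mul_comm (adj l)]
      map_zero' := huniq _ _ fun u v => by simp
      map_add' := fun k l => huniq _ _ fun u v => by
        rw [add_mul, add_mul, map_add, map_add, AddMonoidHom.add_apply, hadj', hadj'] }
  have hcv : ∀ u v, c u v = c 1 (τ u * v) := fun u v => by
    show c u v = c 1 (adj u * v)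
    rw [← hadj' u 1 v, mul_one]
  rcases h.inverting τ (huniq _ _ hadj) with ⟨-, ha1, hτ⟩ | ⟨heven, hτ⟩
  · refine absurd ?_ hc
    refine AddMonoidHom.ext fun u => AddMonoidHom.ext fun v => ?_
    rw [hcv, hτ, AddMonoidHom.zero_apply, AddMonoidHom.zero_apply]
    haveI := h.charP
    have hsurj : Function.Surjective (ZMod.castHom dvd_rfl K : ZMod p →+* K) :=
      ((Nat.bijective_iff_injective_and_card _).2 ⟨RingHom.injective _, by
        rw [Nat.card_zmod, h.card, ha1, pow_one]⟩).2
    obtain ⟨n, hn⟩ := hsurj (u * v)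
    rw [← hn, ← ZMod.natCast_zmod_val n, map_natCast, ← nsmul_one, map_nsmul, halt, smul_zero]
  set ψ : K →+ A := c 1 with hψ
  refine ⟨ψ.range, Finite.of_surjective ψ.rangeRestrict ψ.rangeRestrict_surjective, ?_,
    fun u v => ⟨τ u * v, (hcv u v).symm⟩⟩
  rw [if_pos heven]
  obtain ⟨m, hm⟩ := heven
  have hm2 : a / 2 = m := by omega
  rw [hm2]
  have hnorm : ∀ u : K, ψ (u ^ (p ^ m + 1)) = 0 := fun u => by
    rw [hψ, pow_succ, ← hm2, ← hτ, ← hcv, halt]
  -- the kernel contains all norms
  let N : Kˣ →* Kˣ := powMonoidHom (p ^ m + 1)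
  haveI : Fintype K := Fintype.ofFinite K
  have hker : Nat.card N.ker ≤ p ^ m + 1 := by
    have h1 := IsCyclic.card_pow_eq_one_le (α := Kˣ) (n := p ^ m + 1) (by omega)
    refine le_trans (le_of_eq ?_) h1
    rw [← Fintype.card_subtype, ← Nat.card_eq_fintype_card]
    exact Nat.card_congr (Equiv.refl _)
  have hunits : Nat.card Kˣ = p ^ m * p ^ m - 1 := by
    rw [Nat.card_units, h.card, hm, pow_add]
  have himg : p ^ m - 1 ≤ Nat.card N.range := by
    have h1 := N.ker.card_mul_index
    rw [Subgroup.index_ker, hunits] at h1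
    have hP : 1 ≤ p ^ m := Nat.one_le_pow _ _ hp.out.pos
    generalize p ^ m = P at hker h1 hP ⊢
    by_contra hlt
    push Not at hlt
    have h2 : Nat.card N.ker * Nat.card N.range ≤ (P + 1) * (P - 2) :=
      Nat.mul_le_mul hker (by omega)
    rw [h1] at h2
    obtain ⟨Q, rfl⟩ : ∃ Q, P = Q + 2 := ⟨P - 2, by omega⟩
    rw [show Q + 2 - 2 = Q by omega] at h2
    have : (Q + 2) * (Q + 2) = (Q + 2 + 1) * Q + (Q + 4) := by ring
    omega
  have hkerψ : p ^ m ≤ Nat.card ψ.ker := by
    let f : Option N.range → ψ.ker := fun o => o.elim 0 fun x => ⟨((x : Kˣ) : K), by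
      obtain ⟨y, hy⟩ := x.2
      rw [AddMonoidHom.mem_ker, ← hy]
      exact hnorm y⟩
    have hf : Function.Injective f := by
      rintro (_ | x) (_ | y) he
      · rfl
      · exact absurd (congrArg Subtype.val he).symm (Units.ne_zero _)
      · exact absurd (congrArg Subtype.val he) (Units.ne_zero _)
      · exact congrArg some (Subtype.ext (Units.ext (congrArg Subtype.val he :)))
    refine le_trans ?_ (Nat.card_le_card_of_injective f hf)
    rw [Finite.card_option]
    omega
  have h1 := ψ.ker.card_mul_index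
  rw [AddSubgroup.index_ker, h.card, hm, pow_add] at h1
  refine Nat.le_of_mul_le_mul_left ?_ (pow_pos hp.out.pos m)
  calc p ^ m * Nat.card ψ.range ≤ Nat.card ψ.ker * Nat.card ψ.range := Nat.mul_le_mul_right _ hkerψ
    _ = p ^ m * p ^ m := h1

end Cfsg.Agent.Lib.SchmidtUniversal
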