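import Cfsg.Agent.Lib.SchmidtUniversal.Fibre
import Cfsg.Agent.Lib.Transfer.Frobenius

/-!
A minimal non-`p`-nilpotent group attaining the bound.
-/

set_option autoImplicit false
set_option linter.unusedSectionVars false

open scoped commutatorElement Pointwise

namespace Cfsg.Agent.Lib.SchmidtUniversal

universe u

variable {p q a : ℕ} [hp : Fact p.Prime] [hq : Fact q.Prime] {K : Type u} [Field K] [Finite K]
  {ζ : K} {Z : Type u} [AddCommGroup Z] [Finite Z]

/-- The central extension of `K` by `Z` given by a biadditive map. -/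
@[ext] structure Heis (b : K →+ K →+ Z) where
  /-- coordinate in `K` -/
  u : K
  /-- coordinate in `Z` -/
  z : Z

variable {b : K →+ K →+ Z}

namespace Heis

instance : Mul (Heis b) := ⟨fun x y => ⟨x.u + y.u, x.z + y.z + b x.u y.u⟩⟩
instance : One (Heis b) := ⟨⟨0, 0⟩⟩
instance : Inv (Heis b) := ⟨fun x => ⟨-x.u, -x.z + b x.u x.u⟩⟩

theorem mul_u (x y : Heis b) : (x * y).u = x.u + y.u := rfl
theorem mul_z (x y : Heis b) : (x * y).z = x.z + y.z + b x.u y.u := rfl
theorem one_u : (1 : Heis b).u = 0 := rfl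
theorem one_z : (1 : Heis b).z = 0 := rfl
theorem inv_u (x : Heis b) : x⁻¹.u = -x.u := rfl
theorem inv_z (x : Heis b) : x⁻¹.z = -x.z + b x.u x.u := rfl

instance : Group (Heis b) :=
  Group.ofLeftAxioms
    (fun x y w => Heis.ext (by simp [mul_u, add_assoc]) (by
      simp only [mul_z, mul_u, map_add, AddMonoidHom.add_apply]; abel))
    (fun x => Heis.ext (by simp [mul_u, one_u]) (by simp [mul_z, one_u, one_z]))
    (fun x => Heis.ext (by simp [mul_u, inv_u, one_u])
      (by simp only [mul_z, inv_u, inv_z, one_z, map_neg, AddMonoidHom.neg_apply]; abel))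

/-- As a type. -/
def equivProd (b : K →+ K →+ Z) : Heis b ≃ K × Z where
  toFun x := (x.u, x.z)
  invFun x := ⟨x.1, x.2⟩
  left_inv _ := rfl
  right_inv _ := rfl

instance : Finite (Heis b) := Finite.of_equiv _ (equivProd b).symm

theorem card : Nat.card (Heis b) = Nat.card K * Nat.card Z := by
  rw [Nat.card_congr (equivProd b), Nat.card_prod]

/-- The automorphism `(u, z) ↦ (c u, z)`. -/
def scale (c : K) (hc : c ≠ 0) (hb : ∀ x y, b (c * x) (c * y) = b x y) : MulAut (Heis b) where
  toFun x := ⟨c * x.u, x.z⟩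
  invFun x := ⟨c⁻¹ * x.u, x.z⟩
  left_inv x := Heis.ext (inv_mul_cancel_left₀ hc _) rfl
  right_inv x := Heis.ext (mul_inv_cancel_left₀ hc _) rfl
  map_mul' x y := Heis.ext (mul_add c _ _) (by simp [mul_z, hb])

theorem scale_pow {c : K} {hc : c ≠ 0} {hb : ∀ x y, b (c * x) (c * y) = b x y} (n : ℕ)
    (x : Heis b) : (scale c hc hb ^ n) x = ⟨c ^ n * x.u, x.z⟩ := by
  induction n with
  | zero => simp
  | succ n ih =>
    rw [pow_succ', MulAut.mul_apply, ih]
    exact Heis.ext (by rw [pow_succ', mul_assoc]; rfl) rfl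

theorem commutator_eq (x y : Heis b) : ⁅x, y⁆ = ⟨0, b x.u y.u - b y.u x.u⟩ := by
  rw [commutatorElement_def, show x * y * x⁻¹ * y⁻¹ = x * y * (y * x)⁻¹ by group]
  refine mul_right_cancel (b := y * x) ?_
  rw [inv_mul_cancel_right]
  exact Heis.ext (by simp only [mul_u, zero_add]; rw [add_comm]) (by
    simp only [mul_z, map_zero, AddMonoidHom.zero_apply]; abel)

end Heis

/-- `C_n` acting through `scale ζ`. -/
noncomputable def actHom {n : ℕ} [NeZero n] (hn : q ∣ n) (hζ : ζ ≠ 0) (hord : orderOf ζ = q)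
    (hb : ∀ x y, b (ζ * x) (ζ * y) = b x y) :
    Multiplicative (ZMod n) →* MulAut (Heis b) :=
  MonoidHom.mk' (fun i => Heis.scale ζ hζ hb ^ i.toAdd.val) fun i j => by
    rw [← pow_add, toAdd_mul, ZMod.val_add]
    refine MulEquiv.ext fun x => ?_
    rw [Heis.scale_pow, Heis.scale_pow, ← pow_mod_orderOf, hord, Nat.mod_mod_of_dvd _ hn,
      ← hord, pow_mod_orderOf]

variable {r : ℕ} [NeZero (q ^ r)]

theorem model_props (h : Gen p q a ζ) (hr : 1 ≤ r) (b : K →+ K →+ Z)
    (hb : ∀ x y, b (ζ * x) (ζ * y) = b x y)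
    (hgen : AddSubgroup.closure (Set.range fun w : K × K => b w.1 w.2 - b w.2 w.1) = ⊤)
    (hZ : Nat.card Z = p ^ (if Even a then a / 2 else 0)) :
    ∃ (G : Type u) (_ : Group G) (_ : Finite G) (d : Datum p (q ^ r) ζ G),
      (¬ Cfsg.HasNormalPComplement p G ∧ ∀ H : Subgroup G, H ≠ ⊤ → Cfsg.HasNormalPComplement p ↥H) ∧
      Nat.card G = p ^ (a + if Even a then a / 2 else 0) * q ^ r ∧
      Nat.card d.P = p ^ (a + if Even a then a / 2 else 0) := by
  classical
  have hqn : q ∣ q ^ r := dvd_pow_self q (by omega)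
  let φ := actHom (b := b) hqn h.ne_zero h.ord hb
  let G := Heis b ⋊[φ] Multiplicative (ZMod (q ^ r))
  haveI : Finite G := Finite.of_equiv _ SemidirectProduct.equivProd.symm
  have hcardH : Nat.card (Heis b) = p ^ (a + if Even a then a / 2 else 0) := by
    rw [Heis.card, h.card, hZ, pow_add]
  have hφ : ∀ (i : Multiplicative (ZMod (q ^ r))) (x : Heis b),
      φ i x = ⟨ζ ^ i.toAdd.val * x.u, x.z⟩ := fun i x => Heis.scale_pow _ x
  let g1 : Multiplicative (ZMod (q ^ r)) := Multiplicative.ofAdd 1
  have hg1 : g1.toAdd.val = 1 := by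
    haveI : Fact (1 < q ^ r) := ⟨Nat.one_lt_pow (by omega) hq.out.one_lt⟩
    exact ZMod.val_one (q ^ r)
  let α : G := SemidirectProduct.inr g1
  let P : Subgroup G := (SemidirectProduct.inl : Heis b →* G).range
  have hPn : P.Normal := by
    show (SemidirectProduct.inl : Heis b →* G).range.Normal
    rw [SemidirectProduct.range_inl_eq_ker_rightHom]
    infer_instance
  have hPcard : Nat.card P = Nat.card (Heis b) :=
    (Nat.card_congr (MonoidHom.ofInjective SemidirectProduct.inl_injective).toEquiv).symm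
  have hHp : IsPGroup p (Heis b) := IsPGroup.of_card hcardH
  have hord : orderOf α = q ^ r := by
    rw [orderOf_injective _ SemidirectProduct.inr_injective, orderOf_ofAdd_eq_addOrderOf,
      ZMod.addOrderOf_one]
  have hαconj : ∀ x : Heis b,
      α * SemidirectProduct.inl x * α⁻¹ = SemidirectProduct.inl ⟨ζ * x.u, x.z⟩ := by
    intro x
    rw [← map_inv]
    show (SemidirectProduct.inr g1 * SemidirectProduct.inl x * SemidirectProduct.inr g1⁻¹ : G) = _
    rw [← SemidirectProduct.inl_aut, hφ, hg1, pow_one]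
  have hπmem : ∀ x : P, ∃ y : Heis b, (x : G) = SemidirectProduct.inl y := fun x => by
    obtain ⟨y, hy⟩ := x.2
    exact ⟨y, hy.symm⟩
  let π : P →* Multiplicative K :=
    MonoidHom.mk' (fun x => Multiplicative.ofAdd ((x : G).left).u) fun x y => by
      obtain ⟨x', hx⟩ := hπmem x
      obtain ⟨y', hy⟩ := hπmem y
      rw [Subgroup.coe_mul, hx, hy, ← map_mul]
      simp [Heis.mul_u, ofAdd_add]
  have hcentral : ∀ z : Z, ∀ g : G,
      g * SemidirectProduct.inl (⟨0, z⟩ : Heis b) = SemidirectProduct.inl ⟨0, z⟩ * g := by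
    intro z g
    refine SemidirectProduct.ext ?_ ?_
    swap
    · show g.right * 1 = 1 * g.right
      rw [mul_one, one_mul]
    show g.left * φ g.right ⟨0, z⟩ = ⟨0, z⟩ * φ 1 g.left
    rw [map_one, MulAut.one_apply, hφ]
    exact Heis.ext (by simp [Heis.mul_u]) (by simp [Heis.mul_z, add_comm])
  have hfull : ∀ S : Subgroup G, (∀ x ∈ P, ⁅α, x⁆ ∈ S) → P ≤ S := by
    intro S hS
    have h1 : ζ - 1 ≠ 0 := sub_ne_zero.2 fun h1 => hq.out.ne_one (by rw [← h.ord, h1, orderOf_one])
    have hlift : ∀ k : K, ∃ z : Z, SemidirectProduct.inl (⟨k, z⟩ : Heis b) ∈ S := by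
      intro k
      have := hS (SemidirectProduct.inl (⟨(ζ - 1)⁻¹ * k, 0⟩ : Heis b)) ⟨_, rfl⟩
      rw [commutatorElement_def, hαconj, ← map_inv, ← map_mul] at this
      refine ⟨((⟨ζ * ((ζ - 1)⁻¹ * k), 0⟩ : Heis b) * (⟨(ζ - 1)⁻¹ * k, 0⟩ : Heis b)⁻¹).z, ?_⟩
      convert this using 2
      refine Heis.ext ?_ rfl
      simp only [Heis.mul_u, Heis.inv_u]
      linear_combination -(mul_inv_cancel_left₀ h1 k)
    let T : AddSubgroup Z :=
      { carrier := {z | SemidirectProduct.inl (⟨0, z⟩ : Heis b) ∈ S}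
        zero_mem' := by
          show SemidirectProduct.inl (1 : Heis b) ∈ S
          rw [map_one]; exact one_mem _
        add_mem' := fun {z w} hz hw => by
          have := mul_mem (show SemidirectProduct.inl (⟨0, z⟩ : Heis b) ∈ S from hz)
            (show SemidirectProduct.inl (⟨0, w⟩ : Heis b) ∈ S from hw)
          rw [← map_mul, show (⟨0, z⟩ : Heis b) * ⟨0, w⟩ = ⟨0, z + w⟩ from
            Heis.ext (add_zero 0) (show z + w + b 0 0 = z + w by simp)] at this
          exact this
        neg_mem' := fun {z} hz => by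
          have := inv_mem (show SemidirectProduct.inl (⟨0, z⟩ : Heis b) ∈ S from hz)
          rw [← map_inv, show (⟨0, z⟩ : Heis b)⁻¹ = ⟨0, -z⟩ from
            Heis.ext neg_zero (show -z + b 0 0 = -z by simp)] at this
          exact this }
    have hT : T = ⊤ := top_le_iff.1 (hgen ▸ (AddSubgroup.closure_le T).2 (by
      rintro _ ⟨⟨u, v⟩, rfl⟩
      obtain ⟨zu, hu⟩ := hlift u
      obtain ⟨zv, hv⟩ := hlift v
      have := mul_mem (mul_mem (mul_mem hu hv) (inv_mem hu)) (inv_mem hv)
      rw [← map_inv, ← map_inv, ← map_mul, ← map_mul, ← map_mul, ← commutatorElement_def,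
        Heis.commutator_eq] at this
      exact this))
    rintro _ ⟨⟨k, z⟩, rfl⟩
    obtain ⟨z', hz'⟩ := hlift k
    have : z - z' ∈ T := hT ▸ trivial
    have := mul_mem hz' (show SemidirectProduct.inl (⟨0, z - z'⟩ : Heis b) ∈ S from this)
    rw [← map_mul] at this
    convert this using 2
    exact Heis.ext (by simp [Heis.mul_u]) (by simp [Heis.mul_z])
  have hgentop : P ⊔ Subgroup.zpowers α = ⊤ := by
    refine top_le_iff.1 fun g _ => ?_
    rw [← SemidirectProduct.inl_left_mul_inr_right g]
    refine mul_mem (Subgroup.mem_sup_left ⟨_, rfl⟩) (Subgroup.mem_sup_right ?_)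
    refine Subgroup.mem_zpowers_iff.2 ⟨(g.right.toAdd.val : ℤ), ?_⟩
    rw [zpow_natCast, ← map_pow]
    congr 1
    rw [← ofAdd_nsmul, nsmul_one, ZMod.natCast_zmod_val]
    rfl
  let d : Datum p (q ^ r) ζ G :=
    { α := α
      P := P
      π := π
      normal := hPn
      pgroup := IsPGroup.of_card (hPcard.trans hcardH)
      ord := hord
      gen := hgentop
      surj := fun k => ⟨⟨SemidirectProduct.inl ⟨k.toAdd, 0⟩, _, rfl⟩, rfl⟩
      equiv := fun x => by
        obtain ⟨y, hy⟩ := hπmem x
        show Multiplicative.ofAdd ((α * (x : G) * α⁻¹).left).u =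
          Multiplicative.ofAdd (ζ * ((x : G).left).u)
        rw [hy, hαconj]
        rfl
      central := fun x hx g => by
        obtain ⟨y, hy⟩ := hπmem x
        have hu : y.u = 0 := by
          have : Multiplicative.ofAdd ((x : G).left).u = 1 := hx
          rw [hy] at this
          exact this
        obtain ⟨yu, yz⟩ := y
        subst hu
        rw [hy]
        exact hcentral yz g
      full := hfull }
  have hcardG : Nat.card G = p ^ (a + if Even a then a / 2 else 0) * q ^ r := by
    rw [SemidirectProduct.card, hcardH, Nat.card_congr Multiplicative.toAdd, Nat.card_zmod]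
  refine ⟨G, inferInstance, inferInstance, d, ⟨?_, fun H hH => ?_⟩, hcardG, hPcard.trans hcardH⟩
  · rintro ⟨S, N, hN, hc⟩
    have hcop : ((q ^ r).Coprime p) :=
      Nat.Coprime.pow_left r ((Nat.coprime_primes hq.out hp.out).2 (Ne.symm h.ne))
    obtain ⟨s, hs⟩ := IsPGroup.iff_card.1 S.2
    have hNidx : N.index = p ^ s := hc.symm.index_eq_card.trans hs
    haveI := hN
    have hαN : α ∈ N := by
      rw [← QuotientGroup.eq_one_iff, ← orderOf_eq_one_iff]
      refine Nat.eq_one_of_dvd_coprimes (hcop.pow_right s)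
        ((orderOf_map_dvd (QuotientGroup.mk' N) α).trans hord.dvd) ?_
      rw [← hNidx, Subgroup.index_eq_card]
      exact orderOf_dvd_natCard _
    have hdisj : Disjoint N P := by
      rw [disjoint_iff]
      refine Subgroup.card_eq_one.1 ?_
      obtain ⟨k, hk⟩ := IsPGroup.iff_card.1 (d.pgroup.to_le (inf_le_right : N ⊓ P ≤ P))
      have hd := Subgroup.card_dvd_of_le (inf_le_left : N ⊓ P ≤ N)
      rw [hk] at hd ⊢
      have hNc : ¬ p ∣ Nat.card N := by
        have hSs : p ^ s = p ^ (a + if Even a then a / 2 else 0) := by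
          rw [← hs, S.card_eq_multiplicity, hcardG, Nat.factorization_mul
            (pow_ne_zero _ hp.out.ne_zero) (pow_ne_zero _ hq.out.ne_zero), hp.out.factorization_pow,
            hq.out.factorization_pow]
          simp [h.ne, Ne.symm h.ne]
        intro hdvd
        have h1 := N.card_mul_index
        rw [hNidx, hcardG, hSs, mul_comm] at h1
        rw [Nat.eq_of_mul_eq_mul_left (pow_pos hp.out.pos _) h1] at hdvd
        exact h.ne ((Nat.prime_dvd_prime_iff_eq hp.out hq.out).1 (hp.out.dvd_of_dvd_pow hdvd))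
      rcases Nat.eq_zero_or_pos k with rfl | hk0
      · exact pow_zero p
      · exact absurd ((dvd_pow_self p hk0.ne').trans hd) hNc
    have hx : (SemidirectProduct.inl (⟨1, 0⟩ : Heis b) : G) ∈ P := ⟨_, rfl⟩
    have h1 := (Subgroup.commute_of_normal_of_disjoint N P hN hPn hdisj α _ hαN hx).eq
    have h2 := hαconj ⟨1, 0⟩
    rw [h1, mul_inv_cancel_right] at h2
    have h3 := congrArg Heis.u (SemidirectProduct.inl_injective h2)
    simp only [mul_one] at h3
    exact hq.out.ne_one (by rw [← h.ord, ← h3, orderOf_one])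
  · suffices hnil : Group.IsNilpotent ↥H by
      exact Cfsg.Agent.Lib.Transfer.Frobenius.hasNormalPComplement_of_isNilpotent
    by_cases hR : ∀ g ∈ H, q ∣ g.right.toAdd.val
    · let f : ↥H →* Heis b × Multiplicative (ZMod (q ^ r)) :=
        MonoidHom.mk' (fun g => ((g : G).left, (g : G).right)) fun g g' => by
          have hone : ∀ x, φ (g : G).right x = x := fun x => by
            rw [hφ, ← pow_mod_orderOf, h.ord, Nat.mod_eq_zero_of_dvd (hR g g.2), pow_zero, one_mul]
          refine Prod.ext ?_ rfl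
          show (g : G).left * φ (g : G).right (g' : G).left = _
          rw [hone]
          rfl
      have hf : Function.Injective f := fun g g' he =>
        Subtype.ext (SemidirectProduct.ext (congrArg Prod.fst he) (congrArg Prod.snd he))
      haveI : Group.IsNilpotent (Heis b) := hHp.isNilpotent
      haveI : Group.IsNilpotent (Multiplicative (ZMod (q ^ r))) := inferInstance
      haveI : Group.IsNilpotent f.range := inferInstance
      exact Group.nilpotent_of_mulEquiv (MonoidHom.ofInjective hf).symm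
    push Not at hR
    obtain ⟨g, hgH, hg⟩ := hR
    set N := p ^ (a + if Even a then a / 2 else 0) with hN
    have hy1 : (g ^ N) ^ (q ^ r) = 1 := by rw [← pow_mul, ← hcardG]; exact pow_card_eq_one'
    have hy2 : orderOf (g ^ N) = q ^ r := by
      refine Nat.dvd_antisymm (orderOf_dvd_of_pow_eq_one hy1) ?_
      refine dvd_trans ?_ (orderOf_map_dvd SemidirectProduct.rightHom (g ^ N))
      rw [map_pow, SemidirectProduct.rightHom_eq_right]
      have hcop : g.right.toAdd.val.Coprime (q ^ r) :=
        Nat.Coprime.pow_right r ((hq.out.coprime_iff_not_dvd.2 hg).symm)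
      have hgr : orderOf g.right = q ^ r := by
        have h1 : g.right = g1 ^ g.right.toAdd.val := by
          rw [← ofAdd_nsmul, nsmul_one, ZMod.natCast_zmod_val]; rfl
        rw [h1, Nat.Coprime.orderOf_pow, orderOf_ofAdd_eq_addOrderOf, ZMod.addOrderOf_one]
        rw [orderOf_ofAdd_eq_addOrderOf, ZMod.addOrderOf_one]
        exact hcop.symm
      rw [Nat.Coprime.orderOf_pow (by
        rw [hgr]
        exact (Nat.Coprime.pow r _ ((Nat.coprime_primes hq.out hp.out).2 (Ne.symm h.ne)))), hgr]
    have hmult : q ^ r = q ^ (Nat.card G).factorization q := by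
      rw [hcardG, Nat.factorization_mul (pow_ne_zero _ hp.out.ne_zero)
        (pow_ne_zero _ hq.out.ne_zero), hp.out.factorization_pow, hq.out.factorization_pow]
      simp [Finsupp.single_apply, h.ne]
    let S1 : Sylow q G := Sylow.ofCard (Subgroup.zpowers (g ^ N))
      (by rw [Nat.card_zpowers, hy2, hmult])
    let S2 : Sylow q G := Sylow.ofCard (Subgroup.zpowers α) (by rw [Nat.card_zpowers, hord, hmult])
    obtain ⟨c, hc⟩ := MulAction.exists_smul_eq G S1 S2
    set H' := H.map (MulAut.conj c).toMonoidHom with hH'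
    have hαH : α ∈ H' := by
      have h1 : α ∈ ((c • S1 : Sylow q G) : Subgroup G) := by
        rw [hc]; exact Subgroup.mem_zpowers α
      obtain ⟨w, hw, hwα⟩ :=
        (h1 : α ∈ (Subgroup.zpowers (g ^ N)).map (MulAut.conj c).toMonoidHom)
      exact ⟨w, (Subgroup.zpowers_le.2 (pow_mem hgH N)) hw, hwα⟩
    let U : AddSubgroup K :=
      { carrier := {k | ∃ z, SemidirectProduct.inl (⟨k, z⟩ : Heis b) ∈ H'}
        zero_mem' := ⟨0, by
          show SemidirectProduct.inl (1 : Heis b) ∈ H'
          rw [map_one]; exact one_mem _⟩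
        add_mem' := fun {k l} ⟨z, hz⟩ ⟨w, hw⟩ => ⟨z + w + b k l, by
          have := mul_mem hz hw
          rwa [← map_mul] at this⟩
        neg_mem' := fun {k} ⟨z, hz⟩ => ⟨-z + b k k, by
          have := inv_mem hz
          rwa [← map_inv] at this⟩ }
    rcases h.addSubgroup_cases U (fun k ⟨z, hz⟩ => ⟨z, by
      have := mul_mem (mul_mem hαH hz) (inv_mem hαH)
      rwa [hαconj] at this⟩) with hU | hU
    · have hcomm : IsMulCommutative ↥H' := by
        have hu : ∀ w ∈ H', w.left.u = 0 := fun w hw => by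
          have hw' : w.left.u ∈ U := ⟨w.left.z, by
            have hrpow : SemidirectProduct.inr w.right ∈ H' := by
              have h1 : w.right = g1 ^ w.right.toAdd.val := by
                rw [← ofAdd_nsmul, nsmul_one, ZMod.natCast_zmod_val]; rfl
              rw [h1, map_pow]
              exact pow_mem hαH _
            have := mul_mem hw (inv_mem hrpow)
            rw [show w * (SemidirectProduct.inr w.right)⁻¹ = SemidirectProduct.inl w.left from
              mul_inv_eq_iff_eq_mul.2 (SemidirectProduct.inl_left_mul_inr_right w).symm] at this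
            exact this⟩
          rwa [hU, AddSubgroup.mem_bot] at hw'
        refine ⟨⟨fun x y => Subtype.ext ?_⟩⟩
        rw [Subgroup.coe_mul, Subgroup.coe_mul]
        refine SemidirectProduct.ext ?_ (mul_comm _ _)
        show (x : G).left * φ (x : G).right (y : G).left = (y : G).left * φ (y : G).right (x : G).left
        rw [hφ, hφ]
        exact Heis.ext (by simp [Heis.mul_u, hu x x.2, hu y y.2])
          (by simp [Heis.mul_z, hu x x.2, hu y y.2, add_comm])
      letI : CommGroup ↥H' := { (inferInstance : Group ↥H') with mul_comm := hcomm.1.comm }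
      exact Group.nilpotent_of_mulEquiv
        (Subgroup.equivMapOfInjective H (MulAut.conj c).toMonoidHom (MulAut.conj c).injective).symm
    · exfalso
      have hP : P ≤ H' := hfull H' (by
        rintro _ ⟨⟨k, z⟩, rfl⟩
        obtain ⟨z', hz'⟩ : k ∈ U := hU ▸ trivial
        have h2 := mul_mem (mul_mem (mul_mem hαH hz') (inv_mem hαH)) (inv_mem hz')
        rw [commutatorElement_def]
        convert h2 using 1
        rw [hαconj, hαconj, ← map_inv, ← map_inv, ← map_mul, ← map_mul]
        congr 1
        exact Heis.ext (by simp [Heis.mul_u, Heis.inv_u])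
          (by simp [Heis.mul_z, Heis.inv_u, Heis.inv_z]))
      have htop : H' = ⊤ := top_le_iff.1 (hgentop ▸ sup_le hP (Subgroup.zpowers_le.2 hαH))
      exact hH (Subgroup.map_injective (f := (MulAut.conj c).toMonoidHom) (MulAut.conj c).injective
        (htop.trans (Subgroup.map_top_of_surjective _ (MulAut.conj c).surjective).symm))

/-- The universal group exists. -/
theorem exists_model (h : Gen p q a ζ) (hr : 1 ≤ r) :
    ∃ (G : Type u) (_ : Group G) (_ : Finite G) (d : Datum p (q ^ r) ζ G),
      (¬ Cfsg.HasNormalPComplement p G ∧ ∀ H : Subgroup G, H ≠ ⊤ → Cfsg.HasNormalPComplement p ↥H) ∧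
      Nat.card G = p ^ (a + if Even a then a / 2 else 0) * q ^ r ∧
      Nat.card d.P = p ^ (a + if Even a then a / 2 else 0) := by
  classical
  by_cases he : Even a
  swap
  · exact model_props (Z := PUnit.{u + 1}) h hr 0 (fun _ _ => rfl) (Subsingleton.elim _ _)
      (by rw [if_neg he, pow_zero]; exact Nat.card_unique)
  haveI := h.charP
  obtain ⟨m, hm⟩ := he
  have hm0 : 0 < m := by have := h.pos; omega
  have hm2 : (if Even a then a / 2 else 0) = m := by rw [if_pos ⟨m, hm⟩]; omega
  let τ : K →+* K := iterateFrobenius K p m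
  have hτ : ∀ x, τ x = x ^ p ^ m := fun x => iterateFrobenius_def p m x
  have hττ : ∀ x, τ (τ x) = x := fun x => by
    haveI := Fintype.ofFinite K
    rw [hτ, hτ, ← pow_mul, ← pow_add, ← hm, ← h.card, Nat.card_eq_fintype_card, FiniteField.pow_card]
  have hτζ : τ ζ = ζ⁻¹ := by
    have h1 : ((p : ZMod q) ^ m) * ((p : ZMod q) ^ m) = 1 := by
      rw [← pow_add, ← hm, h.ha, pow_orderOf_eq_one]
    have h2 : (p : ZMod q) ^ m ≠ 1 := fun h2 => by
      have := Nat.le_of_dvd hm0 (h.ha ▸ orderOf_dvd_of_pow_eq_one h2)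
      omega
    have h3 := (mul_self_eq_one_iff.1 h1).resolve_left h2
    have h4 : q ∣ p ^ m + 1 := by
      rw [← ZMod.natCast_eq_zero_iff, Nat.cast_add, Nat.cast_pow, h3, Nat.cast_one, neg_add_cancel]
    rw [hτ]
    refine eq_inv_of_mul_eq_one_left ?_
    rw [← pow_succ]
    exact orderOf_dvd_iff_pow_eq_one.1 (h.ord.symm ▸ h4)
  obtain ⟨e, he0⟩ : ∃ e : K, τ e + e ≠ 0 := by
    by_contra hall
    push Not at hall
    have h1 := hall 1
    rw [map_one] at h1
    have hid : τ ζ = ζ := by linear_combination hall ζ - ζ * h1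
    have h5 : ζ * ζ = 1 := by
      nth_rw 2 [← hid]
      rw [hτζ, mul_inv_cancel₀ h.ne_zero]
    have h6 : q ∣ 2 := h.ord ▸ orderOf_dvd_of_pow_eq_one (by rw [pow_two, h5])
    have hq2 := (Nat.prime_dvd_prime_iff_eq hq.out Nat.prime_two).1 h6
    subst hq2
    have hodd : p % 2 = 1 := Nat.odd_iff.1 (hp.out.odd_of_ne_two h.ne)
    have := h.ha
    rw [show (p : ZMod 2) = 1 by rw [← ZMod.natCast_mod, hodd, Nat.cast_one], orderOf_one] at this
    omega
  let K0 : AddSubgroup K := τ.toAddMonoidHom.eqLocus (AddMonoidHom.id K)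
  have hK0 : ∀ x, x ∈ K0 ↔ τ x = x := fun x => Iff.rfl
  let L : K →+ K := AddMonoidHom.id K - τ.toAddMonoidHom
  have hL : ∀ x, L x = x - τ x := fun x => rfl
  -- `|K0| = p ^ m`
  have hroots : ∀ (c : K) (s : Set K), (∀ x ∈ s, x ^ p ^ m + c * x = 0) → Nat.card s ≤ p ^ m := by
    intro c s hs
    let f : Polynomial K := Polynomial.X ^ p ^ m + Polynomial.C c * Polynomial.X
    have hP1 : 1 < p ^ m := Nat.one_lt_pow hm0.ne' hp.out.one_lt
    have hdeg : (Polynomial.C c * Polynomial.X).degree < ((p ^ m : ℕ) : WithBot ℕ) :=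
      lt_of_le_of_lt (Polynomial.degree_C_mul_X_le c) (by exact_mod_cast hP1)
    have hf0 : f ≠ 0 := Polynomial.Monic.ne_zero
      (Polynomial.monic_X_pow_add (by exact_mod_cast hdeg))
    have hnd : f.natDegree = p ^ m := by
      refine Polynomial.natDegree_eq_of_degree_eq_some ?_
      rw [Polynomial.degree_add_eq_left_of_degree_lt (by rwa [Polynomial.degree_X_pow]),
        Polynomial.degree_X_pow]
    calc Nat.card s ≤ Nat.card (f.roots.toFinset : Set K) := Nat.card_mono (Finset.finite_toSet _)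
          fun x hx => by simp [f, hf0, hs x hx]
      _ ≤ p ^ m := by
        rw [Nat.card_coe_set_eq, Set.ncard_coe_finset, ← hnd]
        exact (Multiset.toFinset_card_le _).trans (Polynomial.card_roots' f)
  have hK0le : Nat.card K0 ≤ p ^ m := hroots (-1) (K0 : Set K) fun x hx => by
    rw [← hτ, (hK0 x).1 hx]; ring
  have hLle : Nat.card L.range ≤ p ^ m := hroots 1 (L.range : Set K) fun x hx => by
    obtain ⟨y, rfl⟩ := hx
    rw [← hτ, hL, map_sub, hττ]; ring
  have hker : L.ker = K0 := AddSubgroup.ext fun x => by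
    rw [AddMonoidHom.mem_ker, hL, sub_eq_zero, hK0]; exact eq_comm
  have hcard0 : Nat.card (K ⧸ K0) = p ^ m := by
    have h1 := K0.card_mul_index
    have h2 := L.ker.card_mul_index
    rw [AddSubgroup.index_ker, hker, h.card, hm, pow_add] at h2
    rw [← AddSubgroup.index_eq_card]
    have h4 : p ^ m * p ^ m ≤ p ^ m * Nat.card L.range := h2 ▸ Nat.mul_le_mul_right _ hK0le
    have h5 : Nat.card L.range = p ^ m :=
      le_antisymm hLle (Nat.le_of_mul_le_mul_left h4 (pow_pos hp.out.pos m))
    rw [h5] at h2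
    rw [Nat.eq_of_mul_eq_mul_right (pow_pos hp.out.pos m) h2, h.card, hm, pow_add] at h1
    exact Nat.eq_of_mul_eq_mul_left (pow_pos hp.out.pos m) h1
  let mk := QuotientAddGroup.mk' K0
  let b : K →+ K →+ K ⧸ K0 :=
    AddMonoidHom.mk' (fun x => mk.comp (AddMonoidHom.mulLeft (e * τ x))) fun x y => by
      ext v
      show mk (e * τ (x + y) * v) = mk (e * τ x * v) + mk (e * τ y * v)
      rw [← map_add, map_add τ, mul_add, add_mul]
  have hbv : ∀ x y, b x y = mk (e * τ x * y) := fun x y => rfl
  refine model_props h hr b (fun x y => ?_) ?_ (by rw [hcard0, hm2])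
  · rw [hbv, hbv, map_mul τ, hτζ]
    congr 1
    field_simp [h.ne_zero]
  · let f : K ⧸ K0 →+ K ⧸ K0 := QuotientAddGroup.lift K0 (mk.comp ((AddMonoidHom.mulLeft e).comp L))
      fun x hx => by
        show mk (e * L x) = 0
        rw [hL, (hK0 x).1 hx, sub_self, mul_zero, map_zero]
    have hf : Function.Injective f := by
      rw [injective_iff_map_eq_zero]
      intro X
      induction X using QuotientAddGroup.induction_on with | H x => ?_
      intro hx
      change mk (e * L x) = 0 at hx
      rw [QuotientAddGroup.mk'_apply, QuotientAddGroup.eq_zero_iff, hK0, map_mul, hL, map_sub,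
        hττ] at hx
      have h1 : (τ e + e) * (x - τ x) = 0 := by linear_combination -hx
      rw [QuotientAddGroup.eq_zero_iff, hK0]
      exact (sub_eq_zero.1 ((mul_eq_zero.1 h1).resolve_left he0)).symm
    refine eq_top_iff.2 fun X _ => AddSubgroup.subset_closure ?_
    obtain ⟨Y, rfl⟩ := (Finite.injective_iff_surjective.1 hf) X
    obtain ⟨k, rfl⟩ := QuotientAddGroup.mk'_surjective K0 Y
    refine ⟨(1, k), ?_⟩
    show b 1 k - b k 1 = mk (e * L k)
    rw [hbv, hbv, map_one, mul_one, mul_one, hL, mul_sub, map_sub]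

end Cfsg.Agent.Lib.SchmidtUniversal
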